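import Cfsg.Agent.H26.CharFS
import Mathlib.LinearAlgebra.Matrix.Charpoly.Basic

/-!
# Real representations and invariant bilinear forms

An irreducible character is afforded by a real representation exactly when its Frobenius–Schur
indicator is one.
-/

set_option autoImplicit false

namespace Cfsg.Agent.H26

open Matrix Representation
open scoped ComplexConjugate ComplexOrder

variable {G : Type*} [Group G]

section

variable {ι : Type*} [Fintype ι] [DecidableEq ι]

/-- The contragredient of a matrix representation. -/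
noncomputable def contraHom (A : G →* Matrix ι ι ℂ) : G →* Matrix ι ι ℂ where
  toFun g := (A g⁻¹).transpose
  map_one' := by simp
  map_mul' a b := by simp [_root_.mul_inv_rev, map_mul, Matrix.transpose_mul]

theorem contraHom_apply (A : G →* Matrix ι ι ℂ) (g : G) : contraHom A g = (A g⁻¹).transpose := rfl

theorem mem_invariants_formRep_contra_iff (A : G →* Matrix ι ι ℂ) (M : Matrix ι ι ℂ) :
    M ∈ invariants (formRep (contraHom A)) ↔ ∀ g, (A g).transpose * M * A g = M := by
  constructor
  · intro h g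
    have h1 : formRep (contraHom A) g⁻¹ M = M := h g⁻¹
    rwa [formRep_apply, contraHom_apply, inv_inv, Matrix.transpose_transpose,
      ← Matrix.mul_assoc] at h1
  · intro h g
    show formRep (contraHom A) g M = M
    rw [formRep_apply, contraHom_apply, Matrix.transpose_transpose, ← Matrix.mul_assoc]
    exact h g⁻¹

variable [Fintype G]

/-- For a real irreducible character there is a nonzero invariant form, and every invariant
form satisfies `Mᵀ = ν M` for the indicator `ν`. -/
theorem invariant_forms (A : G →* Matrix ι ι ℂ) (χ : Cfsg.IrrCharacter G)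
    (hA : ∀ g, Matrix.trace (A g) = χ.1 g) (hreal : ∀ g, (χ.1 g).im = 0) :
    (∃ M : Matrix ι ι ℂ, M ≠ 0 ∧ ∀ g, (A g).transpose * M * A g = M) ∧
      ∀ M : Matrix ι ι ℂ, (∀ g, (A g).transpose * M * A g = M) →
        M.transpose = fsIndicator χ.1 • M := by
  classical
  have hB : ∀ g, Matrix.trace (contraHom A g) = χ.1 g := fun g => by
    rw [contraHom_apply, Matrix.trace_transpose, hA, irr_inv]
    exact Complex.conj_eq_iff_im.2 (hreal g)
  obtain ⟨-, ⟨M, hM, hM0⟩, h⟩ :=
    (formRep_invariants (contraHom A) χ hB).2 ((conjIrr_eq_self_iff χ).2 hreal)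
  exact ⟨⟨M, hM0, (mem_invariants_formRep_contra_iff A M).1 hM⟩,
    fun M hM => h M ((mem_invariants_formRep_contra_iff A M).2 hM)⟩

omit [DecidableEq ι] in
/-- The averaged form `∑ Aᴴ A` is positive definite. -/
theorem posDef_sum_conjTranspose_mul [DecidableEq ι] (A : G →* Matrix ι ι ℂ) :
    (∑ x : G, (A x).conjTranspose * A x).PosDef := by
  classical
  rw [← Finset.add_sum_erase Finset.univ _ (Finset.mem_univ (1 : G))]
  refine Matrix.PosDef.add_posSemidef ?_ ?_
  · simp only [map_one, Matrix.conjTranspose_one, mul_one]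
    exact Matrix.PosDef.one
  · exact Matrix.posSemidef_sum _ fun x _ => Matrix.posSemidef_conjTranspose_mul_self _

/-- The averaged form is invariant. -/
theorem sum_conjTranspose_mul_invariant (A : G →* Matrix ι ι ℂ) (g : G) :
    (A g).conjTranspose * (∑ x : G, (A x).conjTranspose * A x) * A g =
      ∑ x : G, (A x).conjTranspose * A x := by
  rw [Finset.mul_sum, Finset.sum_mul]
  refine Fintype.sum_equiv (Equiv.mulRight g) _ _ fun x => ?_
  simp [map_mul, Matrix.conjTranspose_mul, Matrix.mul_assoc]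

omit [Fintype G] in
/-- A positive definite sandwich vanishes only at zero. -/
theorem eq_zero_of_conjTranspose_mul_mul_eq_zero {P M : Matrix ι ι ℂ} (hP : P.PosDef)
    (h : M.conjTranspose * P * M = 0) : M = 0 := by
  refine Matrix.ext_of_mulVec_single fun i => ?_
  by_contra hne
  rw [Matrix.zero_mulVec] at hne
  have h1 := hP.dotProduct_mulVec_pos hne
  rw [Matrix.star_mulVec, Matrix.mulVec_mulVec, ← Matrix.dotProduct_mulVec, Matrix.mulVec_mulVec,
    ← Matrix.mul_assoc, h] at h1
  simp at h1

omit [Fintype G] in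
/-- Schur's lemma for matrix representations. -/
theorem matrix_schur {n : ℕ} (ρ : Representation ℂ G (Fin n → ℂ)) [ρ.IsIrreducible]
    (Q : Matrix (Fin n) (Fin n) ℂ)
    (hQ : ∀ g, LinearMap.toMatrix' (ρ g) * Q = Q * LinearMap.toMatrix' (ρ g)) :
    ∃ c : ℂ, Q = c • (1 : Matrix (Fin n) (Fin n) ℂ) := by
  have h := H25.eq_smul_id_of_comm ρ (Matrix.toLin' Q) fun g => by
    apply LinearMap.toMatrix'.injective
    rw [LinearMap.toMatrix'_comp, LinearMap.toMatrix'_comp, LinearMap.toMatrix'_toLin']
    exact (hQ g).symm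
  refine ⟨_, Eq.trans ?_ ((congrArg LinearMap.toMatrix' h).trans
    (by rw [map_smul, LinearMap.toMatrix'_id]))⟩
  rw [LinearMap.toMatrix'_toLin']

end

section RealForm

variable {n : ℕ}

/-- The matrices of a representation on a coordinate space, as a homomorphism. -/
noncomputable def matHom {k : Type*} [Field k] (ρ : Representation k G (Fin n → k)) :
    G →* Matrix (Fin n) (Fin n) k where
  toFun x := LinearMap.toMatrix' (ρ x)
  map_one' := by simp [Module.End.one_eq_id]
  map_mul' x y := by simp [LinearMap.toMatrix'_comp, Module.End.mul_eq_comp]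

theorem trace_matHom {k : Type*} [Field k] (ρ : Representation k G (Fin n → k)) (g : G) :
    Matrix.trace (matHom ρ g) = LinearMap.trace k (Fin n → k) (ρ g) :=
  (LinearMap.trace_eq_matrix_trace k (Pi.basisFun k (Fin n)) (ρ g)).symm

variable [Fintype G]

/-- A real representation forces indicator one. -/
theorem fsIndicator_eq_one_of_real (χ : Cfsg.IrrCharacter G) (ρ : Representation ℝ G (Fin n → ℝ))
    (h : ∀ g, ((LinearMap.trace ℝ (Fin n → ℝ) (ρ g) : ℝ) : ℂ) = χ.1 g) :
    fsIndicator χ.1 = 1 := by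
  let R := matHom ρ
  let A : G →* Matrix (Fin n) (Fin n) ℂ :=
    (RingHom.mapMatrix Complex.ofRealHom : Matrix (Fin n) (Fin n) ℝ →+* _).toMonoidHom.comp R
  have hAapp : ∀ g, A g = (R g).map Complex.ofRealHom := fun g => rfl
  have hA : ∀ g, Matrix.trace (A g) = χ.1 g := fun g => by
    rw [← h g, ← trace_matHom, hAapp, Matrix.trace, Matrix.trace]
    simp [R]
  have hreal : ∀ g, (χ.1 g).im = 0 := fun g => by rw [← h g]; simp
  have hH : ∀ g, (A g).conjTranspose = (A g).transpose := fun g => by
    ext i j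
    simp [hAapp, Matrix.conjTranspose_apply]
  let P := ∑ x : G, (A x).conjTranspose * A x
  have hPinv : ∀ g, (A g).transpose * P * A g = P := fun g => by
    rw [← hH]
    exact sum_conjTranspose_mul_invariant A g
  have hPsym : P.transpose = P := by
    simp [P, Matrix.transpose_sum, Matrix.transpose_mul, hH]
  have hn : Nonempty (Fin n) := by
    by_contra hne
    rw [not_nonempty_iff] at hne
    refine irr_one_ne_zero χ ?_
    rw [← hA 1, Matrix.trace]
    simp
  have hP0 : P ≠ 0 := by
    intro h0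
    exact (posDef_sum_conjTranspose_mul A).isUnit.ne_zero h0
  have h2 := (invariant_forms A χ hA hreal).2 P hPinv
  rw [hPsym] at h2
  by_contra hne
  refine hP0 ((smul_eq_zero.1 (?_ : (fsIndicator χ.1 - 1) • P = 0)).resolve_left
    (sub_ne_zero.2 hne))
  rw [sub_smul, one_smul, ← h2, sub_self]

/-- Indicator one forces a real representation. -/
theorem exists_real_of_fsIndicator_eq_one (χ : Cfsg.IrrCharacter G) (h : fsIndicator χ.1 = 1) :
    ∃ (n : ℕ) (ρ : Representation ℝ G (Fin n → ℝ)),
      ∀ g : G, ((LinearMap.trace ℝ (Fin n → ℝ) (ρ g) : ℝ) : ℂ) = χ.1 g := by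
  classical
  have hreal : ∀ g, (χ.1 g).im = 0 := by
    refine (conjIrr_eq_self_iff χ).1 (by_contra fun hne => ?_)
    have := (fsIndicator_cases χ).1 hne
    rw [h] at this
    exact one_ne_zero this
  obtain ⟨m, ρ, hρ, e⟩ := χ.2
  let A := matHom ρ
  have hA : ∀ g, Matrix.trace (A g) = χ.1 g := fun g => by
    rw [trace_matHom, ← e]
    rfl
  have hm : Nonempty (Fin m) := by
    by_contra hne
    rw [not_nonempty_iff] at hne
    refine irr_one_ne_zero χ ?_
    rw [← hA 1, Matrix.trace]
    simp
  obtain ⟨i₀⟩ := hm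
  have hu : ∀ g, IsUnit (A g) := fun g => (Group.isUnit g).map A
  obtain ⟨⟨M, hM0, hM⟩, hsym⟩ := invariant_forms A χ hA hreal
  have hMt : M.transpose = M := by rw [hsym M hM, h, one_smul]
  let H := ∑ x : G, (A x).conjTranspose * A x
  have hH : H.PosDef := posDef_sum_conjTranspose_mul A
  have hHA : ∀ g, (A g).conjTranspose * H * A g = H := sum_conjTranspose_mul_invariant A
  -- the form `M` is nondegenerate: `H⁻¹ * Mᴴ * H⁻¹ᵀ * M` is a scalar
  have hHt : ∀ g, (A g).transpose * H.transpose * (A g).map conj = H.transpose := fun g => by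
    have h1 := congrArg Matrix.transpose (hHA g)
    rw [Matrix.transpose_mul, Matrix.transpose_mul, ← Matrix.mul_assoc] at h1
    exact h1
  have hHdet : IsUnit H.transpose.det := by
    rw [Matrix.det_transpose]
    exact (Matrix.isUnit_iff_isUnit_det H).1 hH.isUnit
  let T : Matrix (Fin m) (Fin m) ℂ := H.transpose⁻¹ * M
  have hT : ∀ g, (A g).map conj * T = T * A g := by
    intro g
    refine ((Matrix.isUnit_iff_isUnit_det _).2 hHdet).mul_left_cancel ?_
    refine ((Matrix.isUnit_transpose _).2 (hu g)).mul_left_cancel ?_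
    show (A g).transpose * (H.transpose * ((A g).map conj * T)) =
      (A g).transpose * (H.transpose * (T * A g))
    rw [← Matrix.mul_assoc, ← Matrix.mul_assoc, hHt, ← Matrix.mul_assoc H.transpose T]
    simp only [T, Matrix.mul_nonsing_inv_cancel_left _ _ hHdet]
    rw [← Matrix.mul_assoc, hM g]
  let C : Matrix (Fin m) (Fin m) ℂ := T.map conj * T
  have hTc : ∀ g, (A g) * T.map conj = T.map conj * (A g).map conj := fun g => by
    have h1 := congrArg (fun X : Matrix (Fin m) (Fin m) ℂ => X.map conj) (hT g)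
    simp only [Matrix.map_mul, Matrix.map_map] at h1
    convert h1 using 2
    ext i j
    simp
  obtain ⟨l, hl⟩ := matrix_schur ρ C fun g => by
    show A g * (T.map conj * T) = (T.map conj * T) * A g
    rw [← Matrix.mul_assoc, hTc, Matrix.mul_assoc, hT, ← Matrix.mul_assoc]
  have hHc : H.transpose.map conj = H := by
    ext i j
    simpa using congrFun (congrFun hH.1.eq i) j
  have hHinv : H.transpose⁻¹.map conj = H⁻¹ := by
    refine (Matrix.inv_eq_left_inv ?_).symm
    conv_lhs => arg 2; rw [← hHc]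
    rw [← Matrix.map_mul, Matrix.nonsing_inv_mul _ hHdet, Matrix.map_one _ (map_zero _) (map_one _)]
  have hMc : M.map conj = M.conjTranspose := by
    conv_lhs => rw [← hMt]
    rfl
  -- positivity of the scalar
  have hl' : M.conjTranspose * H.transpose⁻¹ * M = l • H := by
    have h1 : H * C = H * (l • 1) := by rw [hl]
    simp only [C, T, Matrix.map_mul, hHinv, hMc, Matrix.mul_assoc] at h1
    rw [Matrix.mul_nonsing_inv_cancel_left _ _ ((Matrix.isUnit_iff_isUnit_det H).1 hH.isUnit),
      Matrix.mul_smul, Matrix.mul_one, ← Matrix.mul_assoc] at h1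
    exact h1
  have hlpos : 0 < l := by
    have hps : (M.conjTranspose * H.transpose⁻¹ * M).PosSemidef :=
      hH.transpose.inv.posSemidef.conjTranspose_mul_mul_same M
    have hd := hps.diag_nonneg (i := i₀)
    rw [hl', Matrix.smul_apply, smul_eq_mul] at hd
    have hHd := hH.diag_pos (i := i₀)
    obtain ⟨hd1, hd2⟩ := Complex.nonneg_iff.1 hd
    obtain ⟨hH1, hH2⟩ := Complex.pos_iff.1 hHd
    simp only [Complex.mul_re, Complex.mul_im, ← hH2, mul_zero, sub_zero, zero_add] at hd1 hd2
    have hi : l.im = 0 := (mul_eq_zero.1 hd2.symm).resolve_right hH1.ne'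
    refine lt_of_le_of_ne (Complex.nonneg_iff.2 ⟨nonneg_of_mul_nonneg_left hd1 hH1, hi.symm⟩)
      fun h0 => hM0 ?_
    rw [← h0, zero_smul] at hl'
    exact eq_zero_of_conjTranspose_mul_mul_eq_zero hH.transpose.inv hl'
  obtain ⟨hl1, hl2⟩ := Complex.pos_iff.1 hlpos
  let Q : Matrix (Fin m) (Fin m) ℂ := ((Real.sqrt l.re)⁻¹ : ℂ) • T.map conj
  have hQA : ∀ g, A g * Q = Q * (A g).map conj := fun g => by
    simp only [Q, Matrix.mul_smul, Matrix.smul_mul, hTc]
  have hQQ : Q * Q.map conj = 1 := by
    have h1 : Q.map conj = ((Real.sqrt l.re)⁻¹ : ℂ) • T := by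
      ext i j
      simp [Q]
    rw [h1]
    simp only [Q, Matrix.smul_mul, Matrix.mul_smul, smul_smul]
    rw [show T.map conj * T = l • 1 from hl, smul_smul]
    have h2 : ((Real.sqrt l.re)⁻¹ : ℂ) * ((Real.sqrt l.re)⁻¹ : ℂ) * l = 1 := by
      rw [← mul_inv, ← Complex.ofReal_mul, Real.mul_self_sqrt hl1.le,
        show (l.re : ℂ) = l from Complex.ext rfl (by simpa using hl2),
        inv_mul_cancel₀ hlpos.ne']
    rw [h2, one_smul]
  -- pick a generic `c` so that `S = c + conj c • Q` is invertible
  obtain ⟨c, hc, hdet⟩ : ∃ c : ℂ, c ≠ 0 ∧ (c • (1 : Matrix (Fin m) (Fin m) ℂ) + conj c • Q).det ≠ 0 := by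
    let μ : ℝ → ℂ := fun t => (1 + Complex.I * t) / (1 - Complex.I * t)
    have hd : ∀ t : ℝ, (1 - Complex.I * t) ≠ 0 := fun t h0 => by
      have := congrArg Complex.re h0
      simp at this
    have hinj : Function.Injective μ := by
      intro s t hst
      simp only [μ, div_eq_div_iff (hd s) (hd t)] at hst
      have := congrArg Complex.im hst
      simp at this
      linarith
    obtain ⟨z, ⟨t, rfl⟩, hz⟩ := (Set.infinite_range_of_injective hinj).exists_notMem_finite
      (Polynomial.finite_setOf_isRoot (Matrix.charpoly_monic (-Q)).ne_zero)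
    refine ⟨1 + Complex.I * t, fun h0 => by simpa using congrArg Complex.re h0, fun h0 => hz ?_⟩
    have hc2 : conj (1 + Complex.I * (t : ℂ)) = 1 - Complex.I * t := by
      simp [sub_eq_add_neg]
    have h3 : (1 + Complex.I * (t : ℂ)) • (1 : Matrix (Fin m) (Fin m) ℂ) +
        (1 - Complex.I * t) • Q = (1 - Complex.I * t) • (μ t • 1 + Q) := by
      rw [smul_add, smul_smul (1 - Complex.I * (t : ℂ)) (μ t),
        show (1 - Complex.I * (t : ℂ)) * μ t = 1 + Complex.I * t from mul_div_cancel₀ _ (hd t)]
    rw [hc2, h3, Matrix.det_smul] at h0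
    rw [Set.mem_setOf_eq, Polynomial.IsRoot, Matrix.eval_charpoly, sub_neg_eq_add,
      Matrix.scalar_apply, ← Matrix.smul_one_eq_diagonal]
    exact (mul_eq_zero.1 h0).resolve_left (pow_ne_zero _ (hd t))
  let S : Matrix (Fin m) (Fin m) ℂ := c • 1 + conj c • Q
  have hS : Q * S.map conj = S := by
    have h1 : S.map conj = conj c • 1 + c • Q.map conj := by
      ext i j
      by_cases hij : i = j <;> simp [S, hij]
    rw [h1, Matrix.mul_add, Matrix.mul_smul, Matrix.mul_smul, Matrix.mul_one, hQQ, add_comm]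
  have hSu : IsUnit S.det := isUnit_iff_ne_zero.2 hdet
  let B : G → Matrix (Fin m) (Fin m) ℂ := fun g => S⁻¹ * A g * S
  have hBreal : ∀ g, (B g).map conj = B g := fun g => by
    have h2 : S * (B g).map conj = A g * S := by
      have h3 : (S.map conj) * (B g).map conj = (A g).map conj * S.map conj := by
        simp only [← Matrix.map_mul]
        rw [show B g = S⁻¹ * A g * S from rfl, Matrix.mul_assoc S⁻¹,
          Matrix.mul_nonsing_inv_cancel_left _ _ hSu]
      calc S * (B g).map conj = Q * ((S.map conj) * (B g).map conj) := by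
            rw [← Matrix.mul_assoc, hS]
        _ = A g * S := by
            rw [h3, ← Matrix.mul_assoc, ← hQA, Matrix.mul_assoc, hS]
    rw [← Matrix.nonsing_inv_mul_cancel_left _ ((B g).map conj) hSu, h2, ← Matrix.mul_assoc]
  let R : G → Matrix (Fin m) (Fin m) ℝ := fun g => (B g).map Complex.re
  have hR : ∀ g, (R g).map Complex.ofRealHom = B g := fun g => by
    ext i j
    exact Complex.conj_eq_iff_re.1 (congrFun (congrFun (hBreal g) i) j)
  have hinjR : Function.Injective
      (fun X : Matrix (Fin m) (Fin m) ℝ => X.map Complex.ofRealHom) :=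
    Matrix.map_injective Complex.ofReal_injective
  have hB1 : B 1 = 1 := by simp [B, Matrix.nonsing_inv_mul _ hSu]
  have hBmul : ∀ x y, B (x * y) = B x * B y := fun x y => by
    simp only [B, map_mul, Matrix.mul_assoc, Matrix.mul_nonsing_inv_cancel_left _ _ hSu]
  let Rh : G →* Matrix (Fin m) (Fin m) ℝ :=
    { toFun := R
      map_one' := hinjR (by simp only [hR, hB1, Matrix.map_one _ (map_zero _) (map_one _)])
      map_mul' := fun x y => hinjR (by simp only [Matrix.map_mul, hR, hBmul]) }
  refine ⟨m, (Matrix.toLinAlgEquiv' : Matrix (Fin m) (Fin m) ℝ ≃ₐ[ℝ] _).toAlgHom.toRingHom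
    |>.toMonoidHom.comp Rh, fun g => ?_⟩
  have h1 : LinearMap.trace ℝ (Fin m → ℝ) (Matrix.toLinAlgEquiv' (R g)) = Matrix.trace (R g) := by
    rw [LinearMap.trace_eq_matrix_trace ℝ (Pi.basisFun ℝ (Fin m))]
    congr 1
    exact LinearMap.toMatrix'_toLin' (R g)
  show ((LinearMap.trace ℝ (Fin m → ℝ) (Matrix.toLinAlgEquiv' (R g)) : ℝ) : ℂ) = χ.1 g
  rw [h1, ← hA g]
  calc ((Matrix.trace (R g) : ℝ) : ℂ) = Matrix.trace ((R g).map Complex.ofRealHom) := by
        simp [Matrix.trace]
    _ = Matrix.trace (A g) := by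
        rw [hR, show B g = S⁻¹ * A g * S from rfl, Matrix.mul_assoc, Matrix.trace_mul_comm, Matrix.mul_assoc,
          Matrix.mul_nonsing_inv _ hSu, Matrix.mul_one]

/-- Indicator one iff afforded by a real representation. -/
theorem fsIndicator_eq_one_iff_real (χ : Cfsg.IrrCharacter G) :
    fsIndicator χ.1 = 1 ↔ ∃ (n : ℕ) (ρ : Representation ℝ G (Fin n → ℝ)),
      ∀ g : G, ((LinearMap.trace ℝ (Fin n → ℝ) (ρ g) : ℝ) : ℂ) = χ.1 g :=
  ⟨exists_real_of_fsIndicator_eq_one χ, fun ⟨_, ρ, h⟩ => fsIndicator_eq_one_of_real χ ρ h⟩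

end RealForm

end Cfsg.Agent.H26
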