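import Cfsg.Agent.H41.Blocks
import Cfsg.Agent.H26.CharOrtho
import Cfsg.Agent.H43.CharTools
import Mathlib.LinearAlgebra.Trace
import Mathlib.LinearAlgebra.Charpoly.ToMatrix

/-!
# The dimension of a block algebra in characteristic `p`

An idempotent matrix over a local ring has the same rank after reduction, so `k[G] ē_B` has
dimension the sum of the squares of the degrees in `B`.
-/

set_option autoImplicit false
set_option linter.unusedSectionVars false

namespace Cfsg.Agent.H26

open Cfsg Cfsg.Agent.H41 Polynomial

section Idempotent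

variable {K : Type*} [Field K] {V : Type*} [AddCommGroup V] [Module K V] [FiniteDimensional K V]

/-- The characteristic polynomial of an idempotent endomorphism. -/
theorem charpoly_of_isIdempotent {f : V →ₗ[K] V} (hf : IsIdempotentElem f) :
    f.charpoly = (X - 1) ^ Module.finrank K f.range * X ^ Module.finrank K (LinearMap.ker f) := by
  have h := (LinearMap.isProj_range_iff_isIdempotentElem f).2 hf
  conv_lhs => rw [h.eq_conj_prodMap]
  rw [LinearEquiv.charpoly_conj, LinearMap.charpoly_prodMap, LinearMap.charpoly_zero,
    show (LinearMap.id : f.range →ₗ[K] f.range) = 1 from rfl, LinearMap.charpoly_one]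

end Idempotent

section Reduce

variable {R : Type*} [CommRing R] {K L : Type*} [Field K] [Field L] {n : Type*} [Fintype n]
  [DecidableEq n]

theorem natTrailingDegree_charpoly {A : Matrix n n K} (hA : A * A = A) :
    A.charpoly.rootMultiplicity 1 = Module.finrank K (Matrix.toLin' A).range := by
  have hi : IsIdempotentElem (Matrix.toLin' A) := by
    show Matrix.toLin' A * Matrix.toLin' A = Matrix.toLin' A
    rw [Module.End.mul_eq_comp, ← Matrix.toLin'_mul, hA]
  rw [← Matrix.charpoly_toLin', charpoly_of_isIdempotent hi]
  set r := Module.finrank K (Matrix.toLin' A).range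
  set s := Module.finrank K (LinearMap.ker (Matrix.toLin' A))
  have h0 : ((X : K[X]) - 1) ^ r * X ^ s ≠ 0 :=
    mul_ne_zero (pow_ne_zero _ (by simpa using X_sub_C_ne_zero (1 : K))) (pow_ne_zero _ X_ne_zero)
  rw [rootMultiplicity_mul h0, show (X : K[X]) - 1 = X - C 1 by rw [C_1],
    rootMultiplicity_X_sub_C_pow, rootMultiplicity_eq_zero (by simp [IsRoot]), add_zero]

/-- An idempotent matrix has the same rank over both fields into which it maps. -/
theorem finrank_range_map_eq (φ : R →+* K) (ψ : R →+* L) (hψ : Function.Injective ψ)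
    {A : Matrix n n R} (hA : A * A = A) :
    Module.finrank K (Matrix.toLin' (A.map φ)).range =
      Module.finrank L (Matrix.toLin' (A.map ψ)).range := by
  classical
  have hK : A.map φ * A.map φ = A.map φ := by rw [← Matrix.map_mul, hA]
  have hL : A.map ψ * A.map ψ = A.map ψ := by rw [← Matrix.map_mul, hA]
  have hiK : IsIdempotentElem (Matrix.toLin' (A.map φ)) := by
    show Matrix.toLin' (A.map φ) * Matrix.toLin' (A.map φ) = _
    rw [Module.End.mul_eq_comp, ← Matrix.toLin'_mul, hK]
  have hiL : IsIdempotentElem (Matrix.toLin' (A.map ψ)) := by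
    show Matrix.toLin' (A.map ψ) * Matrix.toLin' (A.map ψ) = _
    rw [Module.End.mul_eq_comp, ← Matrix.toLin'_mul, hL]
  set a := Module.finrank L (Matrix.toLin' (A.map ψ)).range
  set c := Module.finrank L (LinearMap.ker (Matrix.toLin' (A.map ψ)))
  have e : A.charpoly = ((X - 1) ^ a * X ^ c : R[X]) := by
    apply Polynomial.map_injective ψ hψ
    rw [← Matrix.charpoly_map, ← Matrix.charpoly_toLin', charpoly_of_isIdempotent hiL,
      Polynomial.map_mul, Polynomial.map_pow, Polynomial.map_pow, Polynomial.map_sub,
      Polynomial.map_one, Polynomial.map_X]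
  rw [← natTrailingDegree_charpoly hK, Matrix.charpoly_map, e, Polynomial.map_mul,
    Polynomial.map_pow, Polynomial.map_pow, Polynomial.map_sub, Polynomial.map_one, Polynomial.map_X]
  have h0 : ((X : K[X]) - 1) ^ a * X ^ c ≠ 0 :=
    mul_ne_zero (pow_ne_zero _ (by simpa using X_sub_C_ne_zero (1 : K))) (pow_ne_zero _ X_ne_zero)
  rw [rootMultiplicity_mul h0, show (X : K[X]) - 1 = X - C 1 by rw [C_1],
    rootMultiplicity_X_sub_C_pow, rootMultiplicity_eq_zero (by simp [IsRoot]), add_zero]

end Reduce

variable {G : Type*} [Group G] [Finite G] {p : ℕ} [Fact p.Prime] {M : Ideal AlgInt} [M.IsMaximal]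

/-- Coefficients as a linear equivalence. -/
noncomputable def coeffEquiv (R : Type*) [CommRing R] (G : Type*) [Group G] [Finite G] :
    MonoidAlgebra R G ≃ₗ[R] (G → R) where
  toFun a g := a.coeff g
  invFun f := H40.ofFun f
  map_add' a b := funext fun g => by simp
  map_smul' r a := funext fun g => by simp [MonoidAlgebra.coeff_smul_apply]
  left_inv a := H40.ofFun_coeff a
  right_inv f := funext fun g => H40.coeff_ofFun f g

/-- `dim k[G] ē_B = ∑ χ(1)²`. -/
theorem natCast_finrank_range_mulRight_idemBar [Fintype (IrrCharacter G)]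
    {B : Set (IrrCharacter G)} [DecidablePred (· ∈ B)] (hB : IsPBlock M B) :
    (Module.finrank (ResField M) (LinearMap.mulRight (ResField M)
      ((idemBar hB : groupAlgCenter (ResField M) G) : MonoidAlgebra (ResField M) G)).range : ℂ) =
      ∑ χ ∈ Finset.univ.filter (· ∈ B), (χ : G → ℂ) 1 * (χ : G → ℂ) 1 := by
  classical
  let : Field (ResField M) := Ideal.Quotient.field M
  let : Fintype G := Fintype.ofFinite G
  let E : MonoidAlgebra (localRing M) G := (H41.locIdem hB : groupAlgCenter (localRing M) G)
  let A : Matrix G G (localRing M) := Matrix.of fun x y => E.coeff (y⁻¹ * x)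
  have hc : ∀ g, ((E.coeff g : localRing M) : ℂ) = blockCoeff B g := by
    intro g
    rw [← H41.coeff_blockIdem, ← H41.incl_locIdem hB, H41.coeff_incl]
  have hEE : E * E = E := by
    have h : H41.locIdem hB * H41.locIdem hB = H41.locIdem hB := by
      apply incl_injective M
      rw [map_mul, incl_locIdem]
      refine center_ext_omega fun φ => ?_
      rw [map_mul, omega_blockIdem]
      split <;> simp
    exact congrArg Subtype.val h
  have hA : A * A = A := by
    ext x y
    rw [Matrix.mul_apply]
    simp only [A, Matrix.of_apply]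
    conv_rhs => rw [← hEE, H40.coeff_mul_eq_sum]
    refine congrArg Subtype.val (Fintype.sum_equiv (Equiv.mulLeft y⁻¹) _ _ fun z => ?_)
    simp only [Equiv.coe_mulLeft]
    rw [mul_comm]
    congr 2
    group
  have hmap : Submodule.map (coeffEquiv (ResField M) G : MonoidAlgebra (ResField M) G →ₗ[ResField M]
        (G → ResField M))
      (LinearMap.range (LinearMap.mulRight (ResField M)
      ((idemBar hB : groupAlgCenter (ResField M) G) : MonoidAlgebra (ResField M) G))) =
        LinearMap.range (Matrix.toLin' (A.map (res M))) := by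
    have hcomm : ∀ u, coeffEquiv (ResField M) G (u * (idemBar hB : groupAlgCenter (ResField M) G)) =
        Matrix.toLin' (A.map (res M)) (coeffEquiv (ResField M) G u) := by
      intro u
      funext x
      show (u * _).coeff x = _
      rw [H40.coeff_mul_eq_sum, Matrix.toLin'_apply, Matrix.mulVec, dotProduct]
      refine Finset.sum_congr rfl fun y _ => ?_
      rw [idemBar, H41.coeff_redZ]
      show _ = res M (E.coeff (y⁻¹ * x)) * u.coeff y
      rw [mul_comm]
    ext v
    constructor
    · rintro ⟨_, ⟨u, rfl⟩, rfl⟩
      exact ⟨_, (hcomm u).symm⟩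
    · rintro ⟨w, rfl⟩
      refine ⟨_, ⟨(coeffEquiv (ResField M) G).symm w, rfl⟩, ?_⟩
      show coeffEquiv (ResField M) G (_ * _) = _
      rw [hcomm, LinearEquiv.apply_symm_apply]
  rw [← LinearEquiv.finrank_map_eq (coeffEquiv (ResField M) G), hmap,
    finrank_range_map_eq (res M) (localRing M).subtype Subtype.coe_injective hA]
  have hi : IsIdempotentElem (Matrix.toLin' (A.map (localRing M).subtype)) := by
    show Matrix.toLin' (A.map (localRing M).subtype) * Matrix.toLin' (A.map (localRing M).subtype) = _
    rw [Module.End.mul_eq_comp, ← Matrix.toLin'_mul, ← Matrix.map_mul, hA]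
  have ht := ((LinearMap.isProj_range_iff_isIdempotentElem _).2 hi).trace
  rw [← ht, Matrix.trace_toLin'_eq, Matrix.trace]
  have hd : ∀ x, Matrix.diag (A.map (localRing M).subtype) x = blockCoeff B 1 := by
    intro x
    simp only [Matrix.diag_apply, Matrix.map_apply, A, Matrix.of_apply, inv_mul_cancel,
      Subring.coe_subtype, hc]
  simp only [hd, Finset.sum_const, Finset.card_univ, nsmul_eq_mul, H41.blockCoeff_eq_sum]
  rw [← Nat.card_eq_fintype_card, ← mul_assoc,
    mul_inv_cancel₀ (Nat.cast_ne_zero.2 Nat.card_pos.ne'), one_mul]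
  refine Finset.sum_congr rfl fun χ _ => ?_
  rw [H43.irr_charDegree_spec χ, map_natCast]

end Cfsg.Agent.H26
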