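import Cfsg.Agent.H26.CharOrtho
import Mathlib.GroupTheory.GroupAction.MultipleTransitivity

/-!
# Permutation characters
-/

set_option autoImplicit false

namespace Cfsg.Agent.H26

open Module Representation
open scoped ComplexConjugate

variable {G : Type*} [Group G] (X : Type*) [MulAction G X]

/-- The permutation representation on functions `X → ℂ`. -/
def permFunRep : Representation ℂ G (X → ℂ) where
  toFun g := LinearMap.funLeft ℂ ℂ fun x : X => g⁻¹ • x
  map_one' := by ext f x; simp [LinearMap.funLeft_apply]
  map_mul' a b := by ext f x; simp [LinearMap.funLeft_apply, mul_smul]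

/-- The permutation character: the number of fixed points. -/
theorem char_permFunRep [Finite X] (g : G) :
    (permFunRep X).character g = (Nat.card (MulAction.fixedBy X g) : ℂ) := by
  classical
  have : Fintype X := Fintype.ofFinite X
  rw [Representation.character, LinearMap.trace_eq_matrix_trace ℂ (Pi.basisFun ℂ X), Matrix.trace]
  simp only [Matrix.diag_apply, LinearMap.toMatrix_apply, Pi.basisFun_repr, Pi.basisFun_apply]
  show ∑ x, (Pi.single x (1 : ℂ) : X → ℂ) (g⁻¹ • x) = _
  simp only [Pi.single_apply, Finset.sum_boole, inv_smul_eq_iff]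
  rw [Nat.card_eq_fintype_card, Fintype.card_subtype]
  congr 2
  ext x
  simp [eq_comm]

/-- The permutation character, as a function. -/
noncomputable def permChar (g : G) : ℂ := (Nat.card (MulAction.fixedBy X g) : ℂ)

/-- The permutation character is a character. -/
theorem isCharacter_permChar [Finite X] : Cfsg.IsCharacter G (permChar (G := G) X) := by
  have : FiniteDimensional ℂ (X → ℂ) := Module.Finite.pi
  rw [show permChar (G := G) X = (permFunRep X).character from
    funext fun g => (char_permFunRep X g).symm]
  exact isCharacter_char _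

variable [Fintype G]

/-- The multiplicity of the trivial character is the number of orbits. -/
theorem classInner_permChar_one [Finite X] :
    Cfsg.classInner (permChar X) (fun _ : G => 1) =
      (Nat.card (Quotient (MulAction.orbitRel G X)) : ℂ) := by
  classical
  have : Fintype X := Fintype.ofFinite X
  have h := MulAction.sum_card_fixedBy_eq_card_orbits_mul_card_group G X
  have hG : (Nat.card G : ℂ) ≠ 0 := Nat.cast_ne_zero.2 Nat.card_pos.ne'
  rw [Cfsg.classInner]
  simp only [map_one, mul_one, permChar, Nat.card_eq_fintype_card]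
  rw [← Nat.cast_sum, h, Nat.cast_mul, mul_comm _ (Fintype.card G : ℂ),
    inv_mul_cancel_left₀ (by simp)]

/-- The norm of the permutation character is the number of orbits on pairs. -/
theorem classInner_permChar_self [Finite X] :
    Cfsg.classInner (permChar (G := G) X) (permChar X) =
      (Nat.card (Quotient (MulAction.orbitRel G (X × X))) : ℂ) := by
  rw [← classInner_permChar_one (G := G) (X × X), Cfsg.classInner, Cfsg.classInner]
  congr 1
  refine Finset.sum_congr rfl fun g _ => ?_
  simp only [permChar, map_natCast, map_one, mul_one, ← Nat.cast_mul, ← Nat.card_prod]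
  refine congrArg _ (Nat.card_congr ⟨fun p => ⟨(p.1.1, p.2.1), Prod.ext p.1.2 p.2.2⟩,
    fun p => (⟨p.1.1, congrArg Prod.fst p.2⟩, ⟨p.1.2, congrArg Prod.snd p.2⟩),
    fun p => rfl, fun p => rfl⟩)

omit [Fintype G] in
/-- A transitive action on at least two points is 2-transitive iff it has two orbits on pairs. -/
theorem two_pretransitive_iff_orbits [Finite X] [MulAction.IsPretransitive G X]
    (hX : 2 ≤ Nat.card X) :
    MulAction.IsMultiplyPretransitive G X 2 ↔
      Nat.card (Quotient (MulAction.orbitRel G (X × X))) = 2 := by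
  rw [MulAction.is_two_pretransitive_iff]
  have : Nontrivial X := Finite.one_lt_card_iff_nontrivial.1 hX
  obtain ⟨a, b, hab⟩ := exists_pair_ne X
  have mk : ∀ p q : X × X, (⟦p⟧ : Quotient (MulAction.orbitRel G (X × X))) = ⟦q⟧ ↔
      ∃ g : G, g • q = p := fun p q => by
    rw [Quotient.eq]
    exact MulAction.orbitRel_apply
  have hne : ∀ c d : X, c ≠ d →
      (⟦(c, d)⟧ : Quotient (MulAction.orbitRel G (X × X))) ≠ ⟦(a, a)⟧ := by
    intro c d hcd h
    obtain ⟨g, hg⟩ := (mk _ _).1 h
    exact hcd (((congrArg Prod.fst hg).symm).trans (congrArg Prod.snd hg))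
  constructor
  · intro h
    rw [Nat.card_eq_two_iff]
    refine ⟨⟦(a, b)⟧, ⟦(a, a)⟧, hne a b hab, Set.eq_univ_of_forall ?_⟩
    rintro ⟨⟨c, d⟩⟩
    by_cases hcd : c = d
    · subst hcd
      obtain ⟨g, hg⟩ := MulAction.exists_smul_eq G a c
      exact Or.inr ((mk _ _).2 ⟨g, Prod.ext hg hg⟩)
    · obtain ⟨g, hg1, hg2⟩ := h hab hcd
      exact Or.inl ((mk _ _).2 ⟨g, Prod.ext hg1 hg2⟩)
  · intro h c d e f hcd hef
    obtain ⟨x, y, hxy, hu⟩ := Nat.card_eq_two_iff.1 h
    have key : ∀ q : Quotient (MulAction.orbitRel G (X × X)), q = x ∨ q = y := fun q => by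
      have : q ∈ ({x, y} : Set _) := hu ▸ Set.mem_univ q
      exact this
    have : (⟦(e, f)⟧ : Quotient (MulAction.orbitRel G (X × X))) = ⟦(c, d)⟧ := by
      have h1 := hne c d hcd
      have h2 := hne e f hef
      rcases key ⟦(a, a)⟧ with h0 | h0 <;> rcases key ⟦(c, d)⟧ with h3 | h3 <;>
        rcases key ⟦(e, f)⟧ with h4 | h4 <;> simp_all
    obtain ⟨g, hg⟩ := (mk _ _).1 this
    exact ⟨g, congrArg Prod.fst hg, congrArg Prod.snd hg⟩

/-- For a transitive action on at least two points, `π - 1` is irreducible iff 2-transitive. -/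
theorem permChar_sub_one_irreducible_iff [Finite X] [MulAction.IsPretransitive G X]
    (hX : 2 ≤ Nat.card X) :
    Cfsg.IsIrrCharacter G (permChar X - fun _ : G => 1) ↔
      MulAction.IsMultiplyPretransitive G X 2 := by
  classical
  rw [two_pretransitive_iff_orbits X hX]
  have horb : Nat.card (Quotient (MulAction.orbitRel G X)) = 1 := by
    have : Nonempty X := (Nat.card_pos_iff.1 (by omega)).1
    rw [Nat.card_eq_one_iff_unique]
    refine ⟨⟨fun p q => ?_⟩, ⟨⟦Classical.arbitrary X⟧⟩⟩
    induction p using Quotient.inductionOn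
    induction q using Quotient.inductionOn
    rename_i p q
    obtain ⟨g, hg⟩ := MulAction.exists_smul_eq G q p
    exact Quotient.sound ⟨g, hg⟩
  have h1 : Cfsg.classInner (permChar X) (fun _ : G => 1) = 1 := by
    rw [classInner_permChar_one, horb, Nat.cast_one]
  have h11 : Cfsg.classInner (fun _ : G => (1 : ℂ)) (fun _ : G => 1) = 1 := by
    have := classInner_irr (oneIrr G) (oneIrr G)
    rwa [if_pos rfl] at this
  have hnorm : Cfsg.classInner (permChar X - fun _ : G => 1) (permChar X - fun _ : G => 1) =
      (Nat.card (Quotient (MulAction.orbitRel G (X × X))) : ℂ) - 1 := by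
    rw [classInner_sub_left, classInner_sub_right, classInner_sub_right, classInner_permChar_self,
      classInner_comm (permChar X) (fun _ : G => (1 : ℂ)), h1, h11, map_one]
    ring
  constructor
  · intro hirr
    have := classInner_irr (⟨_, hirr⟩ : Cfsg.IrrCharacter G) ⟨_, hirr⟩
    rw [if_pos rfl, hnorm, sub_eq_iff_eq_add] at this
    norm_num at this
    exact_mod_cast this
  · intro h2
    refine isIrrCharacter_of_norm_one (isCharacter_of_nat_coeffs ?_ fun χ => ?_) ?_
    · intro g x
      have := isClassFunction_of_isCharacter (isCharacter_permChar (G := G) X) g x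
      simp [this]
    · obtain ⟨m, hm⟩ := exists_nat_classInner_irr (isCharacter_permChar (G := G) X) χ
      rw [classInner_sub_left, hm]
      by_cases hχ : χ = oneIrr G
      · subst hχ
        refine ⟨0, ?_⟩
        rw [show m = 1 by exact_mod_cast hm.symm.trans h1]
        show ((1 : ℕ) : ℂ) - Cfsg.classInner (fun _ : G => 1) (fun _ : G => 1) = _
        simp [h11]
      · refine ⟨m, ?_⟩
        have := classInner_irr (oneIrr G) χ
        rw [if_neg (Ne.symm hχ)] at this
        rw [show Cfsg.classInner (fun _ : G => (1 : ℂ)) χ.1 = 0 from this, sub_zero]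
    · rw [hnorm, h2]
      norm_num

/-- The permutation character of a transitive action is induced from a point stabilizer. -/
theorem permChar_eq_indFun [Finite X] [MulAction.IsPretransitive G X] (x : X) :
    permChar X = Cfsg.indFun (MulAction.stabilizer G x) (fun _ => 1) := by
  classical
  have : Fintype X := Fintype.ofFinite X
  funext g
  have hH : (Nat.card (MulAction.stabilizer G x) : ℂ) ≠ 0 :=
    Nat.cast_ne_zero.2 Nat.card_pos.ne'
  have hext : ∀ y : G, Cfsg.extendByZero (MulAction.stabilizer G x) (fun _ => 1) (y⁻¹ * g * y) =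
      if g • (y • x) = y • x then 1 else 0 := by
    intro y
    by_cases hy : y⁻¹ * g * y ∈ MulAction.stabilizer G x
    · rw [Cfsg.extendByZero, if_pos]
      · exact Subtype.val_injective.extend_apply _ _ (⟨_, hy⟩ : MulAction.stabilizer G x)
      · rwa [MulAction.mem_stabilizer_iff, mul_smul, mul_smul, inv_smul_eq_iff] at hy
    · rw [Cfsg.extendByZero, Function.extend_apply' _ _ _ (fun ⟨a, ha⟩ => hy (ha ▸ a.2)),
        if_neg]
      · rfl
      · rwa [MulAction.mem_stabilizer_iff, mul_smul, mul_smul, inv_smul_eq_iff] at hy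
  have hfib : ∀ z : X, (Finset.univ.filter fun y : G => y • x = z).card =
      Nat.card (MulAction.stabilizer G x) := by
    intro z
    obtain ⟨c, rfl⟩ := MulAction.exists_smul_eq G x z
    rw [Nat.card_eq_fintype_card, ← Fintype.card_subtype]
    exact Fintype.card_congr ((Equiv.mulLeft c⁻¹).subtypeEquiv fun y => by
      simp [MulAction.mem_stabilizer_iff, mul_smul, inv_smul_eq_iff])
  rw [Cfsg.indFun, Finset.sum_congr rfl fun y _ => hext y]
  rw [← Finset.sum_fiberwise Finset.univ (fun y : G => y • x)]
  rw [Finset.sum_congr rfl fun z _ => Finset.sum_congr rfl (g := fun _ => if g • z = z then (1 : ℂ)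
    else 0) fun y hy => by rw [(Finset.mem_filter.1 hy).2]]
  simp only [Finset.sum_const, hfib, nsmul_eq_mul]
  rw [← Finset.mul_sum, inv_mul_cancel_left₀ hH, Finset.sum_boole, permChar,
    Nat.card_eq_fintype_card, Fintype.card_subtype]
  congr 2

end Cfsg.Agent.H26
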