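import Cfsg.Agent.H26.BlockDim
import Cfsg.Agent.H26.GradedNull
import Cfsg.Agent.H26.BlockFun
import Cfsg.Agent.H26.FongReynolds
import Cfsg.Agent.H40.InducedBlocks
import Cfsg.Agent.H40.PPart
import Cfsg.Agent.H40.BlockDefect
import Cfsg.Agent.H22.BlockTransport
import Cfsg.Agent.H43.Constituents
import Cfsg.Agent.H41.CenterExt
import Mathlib.RingTheory.Noetherian.Nilpotent
import Mathlib.RingTheory.Artinian.Ring

/-!
# Restriction between principal blocks

For `G = N C(P)` with `N` of index prime to `p`, the algebra of the principal block of `G` is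
spanned by the image of the principal block algebra of `N`, so restriction is a bijection of the
two principal blocks.
-/

set_option autoImplicit false
set_option linter.unusedSectionVars false

namespace Cfsg.Agent.H26

open Cfsg Cfsg.Agent.H41
open Cfsg.Agent.H40 (CoeffInvariant)

universe u

variable {G : Type u} [Group G] [Finite G] {p : ℕ} [Fact p.Prime] {M : Ideal AlgInt} [M.IsMaximal]
  {N : Subgroup G} [N.Normal]

section Basic

variable {R : Type*} [CommRing R]

/-- The augmentation. -/
noncomputable def aug (a : MonoidAlgebra R G) : R :=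
  haveI := Fintype.ofFinite G
  ∑ g, a.coeff g

theorem aug_eq_sum [Fintype G] (a : MonoidAlgebra R G) : aug a = ∑ g, a.coeff g := by
  rw [aug]
  congr 1
  exact Finset.ext fun x => by simp

theorem aug_mul (a b : MonoidAlgebra R G) : aug (a * b) = aug a * aug b := by
  classical
  let : Fintype G := Fintype.ofFinite G
  simp only [aug_eq_sum, H40.coeff_mul_eq_sum]
  rw [Finset.sum_comm, Finset.sum_mul_sum]
  exact Finset.sum_congr rfl fun x _ => Fintype.sum_equiv (Equiv.mulLeft x⁻¹) _ _ fun g => rfl

theorem aug_single (g : G) (r : R) : aug (MonoidAlgebra.single g r) = r := by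
  classical
  let : Fintype G := Fintype.ofFinite G
  simp [aug_eq_sum, MonoidAlgebra.coeff_single, Finsupp.single_apply]

theorem aug_add (a b : MonoidAlgebra R G) : aug (a + b) = aug a + aug b := by
  let : Fintype G := Fintype.ofFinite G
  simp [aug_eq_sum, Finset.sum_add_distrib]

theorem aug_smul (r : R) (a : MonoidAlgebra R G) : aug (r • a) = r * aug a := by
  let : Fintype G := Fintype.ofFinite G
  simp [aug_eq_sum, Finset.mul_sum]

theorem aug_sum {ι : Type*} (s : Finset ι) (a : ι → MonoidAlgebra R G) :
    aug (∑ i ∈ s, a i) = ∑ i ∈ s, aug (a i) := by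
  let : Fintype G := Fintype.ofFinite G
  simp only [aug_eq_sum, MonoidAlgebra.coeff_sum, Finsupp.finsetSum_apply]
  exact Finset.sum_comm

/-- The inclusion of `R[N]` in `R[G]`. -/
noncomputable def incN (N : Subgroup G) : MonoidAlgebra R N →+* MonoidAlgebra R G :=
  MonoidAlgebra.mapDomainRingHom R N.subtype

theorem coeff_incN (u : MonoidAlgebra R N) (g : G) :
    open scoped Classical in
    (incN N u).coeff g = if h : g ∈ N then u.coeff ⟨g, h⟩ else 0 :=
  coeff_mapDomain_subtype u g

theorem incN_single (n : N) (r : R) :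
    incN N (MonoidAlgebra.single n r) = MonoidAlgebra.single (n : G) r :=
  MonoidAlgebra.mapDomain_single

theorem aug_incN (u : MonoidAlgebra R N) : aug (incN N u) = aug u := by
  classical
  let : Fintype N := Fintype.ofFinite N
  rw [H40.eq_sum_single u, map_sum, aug_sum, aug_sum]
  exact Finset.sum_congr rfl fun n _ => by rw [incN_single, aug_single, aug_single]

theorem smul_incN (r : R) (u : MonoidAlgebra R N) : incN N (r • u) = r • incN N u := by
  classical
  refine H40.ext_coeff fun g => ?_
  rw [MonoidAlgebra.coeff_smul_apply, coeff_incN, coeff_incN]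
  split <;> simp

/-- `a` is supported in the coset `q`. -/
def SuppIn (N : Subgroup G) (q : G ⧸ N) (a : MonoidAlgebra R G) : Prop :=
  ∀ h, a.coeff h ≠ 0 → (h : G ⧸ N) = q

theorem SuppIn.mul {q r : G ⧸ N} {a b : MonoidAlgebra R G} (ha : SuppIn N q a) (hb : SuppIn N r b) :
    SuppIn N (q * r) (a * b) := by
  classical
  let : Fintype G := Fintype.ofFinite G
  intro h hh
  rw [H40.coeff_mul_eq_sum] at hh
  obtain ⟨x, -, hx⟩ := Finset.exists_ne_zero_of_sum_ne_zero hh
  rw [← ha x (left_ne_zero_of_mul hx), ← hb _ (right_ne_zero_of_mul hx), ← QuotientGroup.mk_mul,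
    mul_inv_cancel_left]

/-- The part of `a` in the coset `q`. -/
noncomputable def cosetPart (q : G ⧸ N) (a : MonoidAlgebra R G) : MonoidAlgebra R G :=
  open scoped Classical in
  H40.ofFun fun h => if (h : G ⧸ N) = q then a.coeff h else 0

theorem coeff_cosetPart (q : G ⧸ N) (a : MonoidAlgebra R G) (h : G) :
    open scoped Classical in
    (cosetPart q a).coeff h = if (h : G ⧸ N) = q then a.coeff h else 0 :=
  H40.coeff_ofFun _ h

theorem suppIn_cosetPart (q : G ⧸ N) (a : MonoidAlgebra R G) : SuppIn N q (cosetPart q a) := by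
  classical
  intro h hh
  rw [coeff_cosetPart] at hh
  by_contra hne
  exact hh (if_neg hne)

theorem sum_cosetPart [Fintype (G ⧸ N)] (a : MonoidAlgebra R G) :
    ∑ q : G ⧸ N, cosetPart q a = a := by
  classical
  refine H40.ext_coeff fun h => ?_
  rw [MonoidAlgebra.coeff_sum, Finsupp.finsetSum_apply]
  simp only [coeff_cosetPart]
  rw [Finset.sum_ite_eq, if_pos (Finset.mem_univ _)]

theorem coeffInvariant_cosetPart {q : G ⧸ N} {a : MonoidAlgebra R G} (ha : CoeffInvariant N a) :
    CoeffInvariant N (cosetPart q a) := by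
  classical
  intro n hn h
  rw [coeff_cosetPart, coeff_cosetPart, ha n hn h]
  have : ((n * h * n⁻¹ : G) : G ⧸ N) = (h : G ⧸ N) := by
    rw [QuotientGroup.mk_mul, QuotientGroup.mk_mul, (QuotientGroup.eq_one_iff n).2 hn,
      (QuotientGroup.eq_one_iff n⁻¹).2 (inv_mem hn), one_mul, mul_one]
  rw [this]

theorem coeffInvariant_iff {a : MonoidAlgebra R G} :
    CoeffInvariant N a ↔ ∀ n : N, Commute (MonoidAlgebra.single (n : G) (1 : R)) a := by
  refine ⟨fun ha n => H40.ext_coeff fun g => ?_, fun h n hn g => ?_⟩
  · simp only [MonoidAlgebra.coeff_single_mul_apply, MonoidAlgebra.coeff_mul_single_apply, one_mul,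
      mul_one]
    have := ha n n.2 ((n : G)⁻¹ * g)
    simpa [mul_assoc] using this.symm
  · have h2 := congrArg (fun w : MonoidAlgebra R G => w.coeff (n * g)) (h ⟨n, hn⟩).eq
    simp only [MonoidAlgebra.coeff_single_mul_apply, MonoidAlgebra.coeff_mul_single_apply, one_mul,
      mul_one] at h2
    simpa [mul_assoc] using h2.symm

theorem commute_incN {a : MonoidAlgebra R G} (ha : CoeffInvariant N a) (u : MonoidAlgebra R N) :
    Commute (incN N u) a := by
  classical
  let : Fintype N := Fintype.ofFinite N
  rw [H40.eq_sum_single u, map_sum]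
  refine Commute.sum_left _ _ _ fun n _ => ?_
  rw [incN_single, show MonoidAlgebra.single (n : G) (u.coeff n) =
    u.coeff n • MonoidAlgebra.single (n : G) (1 : R) by
      rw [MonoidAlgebra.smul_single, smul_eq_mul, mul_one]]
  exact (coeffInvariant_iff.1 ha n).smul_left _

theorem exists_incN_eq {a : MonoidAlgebra R G} (hs : SuppIn N 1 a) : ∃ u, incN N u = a := by
  classical
  refine ⟨H40.ofFun fun n : N => a.coeff n, H40.ext_coeff fun g => ?_⟩
  rw [coeff_incN]
  split_ifs with h
  · rw [H40.coeff_ofFun]
  · by_contra hne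
    exact h ((QuotientGroup.eq_one_iff g).1 (hs g (Ne.symm hne)))

theorem exists_centre_incN_eq {a : MonoidAlgebra R G} (ha : CoeffInvariant N a)
    (hs : SuppIn N 1 a) : ∃ u : groupAlgCenter R N, incN N (u : MonoidAlgebra R N) = a := by
  classical
  obtain ⟨u, rfl⟩ := exists_incN_eq hs
  refine ⟨⟨u, H40.mem_center_iff_coeff.2 fun g x => ?_⟩, rfl⟩
  have := ha x x.2 g
  rw [coeff_incN, coeff_incN, dif_pos g.2, dif_pos (mul_mem (mul_mem x.2 g.2) (inv_mem x.2))] at this
  exact this

end Basic

theorem omegaBar_oneIrr_eq_aug (z : groupAlgCenter (ResField M) G) :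
    omegaBar M (oneIrr G) z = aug (z : MonoidAlgebra (ResField M) G) := by
  classical
  let : Fintype G := Fintype.ofFinite G
  obtain ⟨w, rfl⟩ := H41.redZ_surjective M z
  rw [omegaBar_redZ, aug_eq_sum]
  simp only [H41.coeff_redZ, ← map_sum]
  congr 1
  apply Subtype.ext
  rw [coe_omegaLoc, omega_apply, AddSubmonoidClass.coe_finsetSum]
  simp only [H41.coeff_incl, oneIrr, mul_one, div_one]

/-- An element of the centre not killed by the central character is invertible in the block. -/
theorem exists_inv_mul_idemBar {H : Type u} [Group H] [Finite H] {b : Set (IrrCharacter H)}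
    (hb : IsPBlock M b) {θ : IrrCharacter H} (hθ : θ ∈ b) {w : groupAlgCenter (ResField M) H}
    (hw : omegaBar M θ w ≠ 0) :
    ∃ v : groupAlgCenter (ResField M) H, v * w * idemBar hb = idemBar hb := by
  let : Field (ResField M) := Ideal.Quotient.field M
  obtain ⟨n, hn⟩ := H41.isNilpotent_sub_mul_idemBar hb hθ w
  set s := algebraMap (ResField M) (groupAlgCenter (ResField M) H) (omegaBar M θ w) with hs
  have hu : IsUnit (s + (w - s) * idemBar hb) :=
    IsNilpotent.isUnit_add_left_of_commute ⟨n, hn⟩ ((Ne.isUnit hw).map _) (Commute.all _ _)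
  obtain ⟨v, hv⟩ := hu.exists_left_inv
  refine ⟨v, ?_⟩
  have h1 : (s + (w - s) * idemBar hb) * idemBar hb = w * idemBar hb := by
    rw [add_mul, mul_assoc, (H41.isIdempotentElem_idemBar hb).eq,
      show (w - s) * idemBar hb = w * idemBar hb - s * idemBar hb from sub_mul _ _ _,
      add_sub_cancel]
  rw [mul_assoc, ← h1, ← mul_assoc, hv, one_mul]

section Principal

variable (M) (N)

/-- The standing hypotheses. -/
structure PRSetup (p : ℕ) (P : Sylow p G) : Prop where
  hM : IsPModular p M
  hidx : ¬ p ∣ N.index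
  hsup : N ⊔ Subgroup.centralizer ((P : Subgroup G) : Set G) = ⊤

variable {M} {N} {P : Sylow p G}

theorem PRSetup.le (S : PRSetup M N p P) : (P : Subgroup G) ≤ N := by
  intro x hx
  obtain ⟨k, hk⟩ := P.2 ⟨x, hx⟩
  have hk' : x ^ p ^ k = 1 := congrArg Subtype.val hk
  have h1 : orderOf (x : G ⧸ N) ∣ p ^ k := orderOf_dvd_of_pow_eq_one (by
    rw [← QuotientGroup.mk_pow, hk', QuotientGroup.mk_one])
  obtain ⟨j, -, hj⟩ := (Nat.dvd_prime_pow Fact.out).1 h1
  rcases j with _ | j
  · exact (QuotientGroup.eq_one_iff x).1 (orderOf_eq_one_iff.1 (by simpa using hj))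
  · exact absurd ((dvd_pow_self p (Nat.succ_ne_zero j)).trans (hj ▸ orderOf_dvd_natCard _)) S.hidx

/-- Every coset contains an element centralising the Sylow subgroup with `p`-regular order. -/
theorem PRSetup.exists_rep (S : PRSetup M N p P) (q : G ⧸ N) :
    ∃ g : G, (g : G ⧸ N) = q ∧ g ∈ Subgroup.centralizer ((P : Subgroup G) : Set G) ∧
      ¬ p ∣ orderOf g := by
  obtain ⟨x, rfl⟩ := QuotientGroup.mk_surjective q
  have hx : x ∈ N ⊔ Subgroup.centralizer ((P : Subgroup G) : Set G) := by
    rw [S.hsup]; trivial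
  rw [← SetLike.mem_coe, Subgroup.normal_mul] at hx
  obtain ⟨n, hn, c, hc, rfl⟩ := hx
  obtain ⟨u, hu⟩ := H40.exists_isPPart p c
  obtain ⟨y, huy, hcomm, ⟨k, hk⟩, hy⟩ := id hu
  have huc : u ∈ Subgroup.centralizer ((P : Subgroup G) : Set G) := H40.mem_of_isPPart hu hc
  refine ⟨y, ?_, (Subgroup.mul_mem_cancel_left _ huc).1 (huy.symm ▸ hc), hy⟩
  have h1 : orderOf (u : G ⧸ N) ∣ p ^ k := orderOf_dvd_of_pow_eq_one (by
    rw [← QuotientGroup.mk_pow, ← hk, pow_orderOf_eq_one, QuotientGroup.mk_one])
  obtain ⟨j, -, hj⟩ := (Nat.dvd_prime_pow Fact.out).1 h1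
  rcases j with _ | j
  · rw [QuotientGroup.mk_mul, (QuotientGroup.eq_one_iff n).2 hn, one_mul, ← huy,
      QuotientGroup.mk_mul, (orderOf_eq_one_iff.1 (by simpa using hj) : (u : G ⧸ N) = 1), one_mul]
  · exact absurd ((dvd_pow_self p (Nat.succ_ne_zero j)).trans (hj ▸ orderOf_dvd_natCard _)) S.hidx

/-- An invariant element of each coset with non-zero augmentation. -/
theorem PRSetup.exists_z (S : PRSetup M N p P) (q : G ⧸ N) :
    ∃ z : MonoidAlgebra (ResField M) G, CoeffInvariant N z ∧ SuppIn N q z ∧ aug z ≠ 0 := by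
  classical
  let : Fintype G := Fintype.ofFinite G
  obtain ⟨g, hgq, hgP, -⟩ := S.exists_rep q
  let _ : MulAction N G := MulAction.compHom G (ConjAct.toConjAct.toMonoidHom.comp N.subtype)
  have hsmul : ∀ (n : N) (x : G), n • x = (n : G) * x * (n : G)⁻¹ := fun n x =>
    ConjAct.toConjAct_smul (n : G) x
  refine ⟨H40.ofFun fun h => if h ∈ MulAction.orbit N g then 1 else 0, ?_, ?_, ?_⟩
  · intro n hn h
    simp only [H40.coeff_ofFun]
    have : n * h * n⁻¹ ∈ MulAction.orbit N g ↔ h ∈ MulAction.orbit N g := by
      rw [← hsmul ⟨n, hn⟩ h]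
      constructor
      · rintro ⟨m, hm⟩
        exact ⟨(⟨n, hn⟩ : N)⁻¹ * m, (mul_smul _ m g).trans (inv_smul_eq_iff.2 hm)⟩
      · rintro ⟨m, rfl⟩
        exact ⟨(⟨n, hn⟩ : N) * m, mul_smul _ m g⟩
    simp only [this]
  · intro h hh
    rw [H40.coeff_ofFun] at hh
    by_cases hm : h ∈ MulAction.orbit N g
    · obtain ⟨n, rfl⟩ := hm
      show ((n • g : G) : G ⧸ N) = q
      rw [hsmul, QuotientGroup.mk_mul, QuotientGroup.mk_mul, (QuotientGroup.eq_one_iff _).2 n.2,
        (QuotientGroup.eq_one_iff _).2 (inv_mem n.2), one_mul, mul_one, hgq]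
    · exact absurd (if_neg hm) hh
  · rw [aug_eq_sum]
    simp only [H40.coeff_ofFun, Finset.sum_boole]
    have : CharP (ResField M) p := H41.IsPModular.charP S.hM
    rw [Ne, CharP.cast_eq_zero_iff (ResField M) p]
    have hcard : (Finset.univ.filter (· ∈ MulAction.orbit N g)).card =
        (MulAction.stabilizer N g).index := by
      rw [MulAction.index_stabilizer, Set.ncard_eq_toFinset_card' ]
      congr 1
      ext; simp
    rw [hcard]
    have hle : (P : Subgroup G).subgroupOf N ≤ MulAction.stabilizer N g := fun x hx => by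
      rw [MulAction.mem_stabilizer_iff, hsmul,
        show (x : G) * g = g * (x : G) from
          Subgroup.mem_centralizer_iff.1 hgP _ (Subgroup.mem_subgroupOf.1 hx), mul_inv_cancel_right]
    intro hd
    exact P.not_dvd_index ((hd.trans (Subgroup.index_dvd_of_le hle)).trans
      (Subgroup.relIndex_mul_index S.le ▸ dvd_mul_right _ _))

variable [Fintype G]

theorem centralChar_oneIrr (g : G) :
    centralChar (fun _ : G => (1 : ℂ)) g = ((Subgroup.centralizer ({g} : Set G)).index : ℂ) := by
  simp [centralChar]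

/-- A member of the principal block trivial on cosets of `N` is the trivial character. -/
theorem PRSetup.eq_one_of_const (S : PRSetup M N p P) {χ : IrrCharacter G}
    (hχ : χ ∈ principalBlock M G) (hconst : ∀ g : G, ∀ n : N, (χ : G → ℂ) (g * n) = χ.1 g) :
    χ = oneIrr G := by
  classical
  let : Field (ResField M) := Ideal.Quotient.field M
  have : CharP (ResField M) p := H41.IsPModular.charP S.hM
  let χl : G → localRing M := fun x =>
    ⟨χ.1 x, H41.isIntegral_mem_localRing (H43.irr_isIntegral χ x)⟩
  have hval : ∀ x : G, res M (χl x) = res M (χl 1) := by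
    intro x
    obtain ⟨g, hg, hgP, -⟩ := S.exists_rep (x : G ⧸ N)
    have hxg : χ.1 x = χ.1 g := by
      have := hconst g ⟨g⁻¹ * x, (QuotientGroup.eq (s := N)).1 hg⟩
      simpa using this
    set i : ℕ := (Subgroup.centralizer ({g} : Set G)).index
    have hi : (i : ResField M) ≠ 0 := by
      rw [Ne, CharP.cast_eq_zero_iff (ResField M) p]
      exact fun h => P.not_dvd_index (h.trans (Subgroup.index_dvd_of_le
        (H40.le_centralizer_singleton_iff.2 hgP)))
    have h1 : MemLocalIdeal M (1 - centralChar (χ : G → ℂ) g / i) := by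
      obtain ⟨hm, hr⟩ := H41.memLocalIdeal_iff_res.1 (hχ g)
      have hi' : ((i : ℂ))⁻¹ ∈ localRing M := by
        refine H41.IsPModular.inv_natCast_mem S.hM fun h => hi ?_
        rwa [CharP.cast_eq_zero_iff (ResField M) p]
      have e : 1 - centralChar (χ : G → ℂ) g / i =
          (i : ℂ)⁻¹ * (centralChar (fun _ : G => (1 : ℂ)) g - centralChar (χ : G → ℂ) g) := by
        rw [centralChar_oneIrr, mul_sub, inv_mul_cancel₀
          (Nat.cast_ne_zero.2 (Subgroup.centralizer ({g} : Set G)).index_ne_zero_of_finite),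
          inv_mul_eq_div]
      rw [e]
      exact H40.memLocalIdeal_mul_left hi' (hχ g)
    have e2 : χ.1 x = χ.1 1 * (centralChar (χ : G → ℂ) g / i) := by
      have hd0 : χ.1 1 ≠ 0 := H26.irr_one_ne_zero χ
      have hi0 : (i : ℂ) ≠ 0 :=
        Nat.cast_ne_zero.2 (Subgroup.centralizer ({g} : Set G)).index_ne_zero_of_finite
      rw [hxg, centralChar, show (Subgroup.centralizer ({g} : Set G)).index = i from rfl]
      field_simp
    refine sub_eq_zero.1 ?_
    rw [← map_sub]
    obtain ⟨hm, hr⟩ := H41.memLocalIdeal_iff_res.1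
      (H40.memLocalIdeal_mul_left (M := M) (z := χ.1 1) (χl 1).2 h1)
    rw [← neg_eq_zero, ← map_neg, ← hr]
    congr 1
    apply Subtype.ext
    push_cast [χl]
    rw [e2]
    ring
  by_contra hne
  -- orthogonality to the trivial character and the norm
  have h0 : ∑ x : G, χl x = 0 := by
    apply Subtype.ext
    rw [AddSubmonoidClass.coe_finsetSum]
    have := H43.sum_mul_conj χ (oneIrr G)
    rw [if_neg hne] at this
    simpa [oneIrr, χl] using this
  let : Fintype (G ⧸ N) := Fintype.ofFinite _
  let : Fintype N := Fintype.ofFinite N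
  have hcos : ∀ f : G → localRing M, (∀ g : G, ∀ n : N, f (g * n) = f g) →
      ∑ x : G, f x = (Fintype.card N : localRing M) * ∑ q : G ⧸ N, f q.out := by
    intro f hf
    rw [Finset.mul_sum, ← Finset.sum_fiberwise (Finset.univ : Finset G) (fun x => (x : G ⧸ N)) f]
    refine Finset.sum_congr rfl fun q _ => ?_
    have hconst' : ∀ x ∈ Finset.univ.filter (fun x : G => (x : G ⧸ N) = q), f x = f q.out := by
      intro x hx
      have hx' := (Finset.mem_filter.1 hx).2
      have hmem : q.out⁻¹ * x ∈ N := QuotientGroup.eq.1 ((Quotient.out_eq q).trans hx'.symm)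
      have := hf q.out ⟨_, hmem⟩
      simpa using this
    rw [Finset.sum_congr rfl hconst', Finset.sum_const, nsmul_eq_mul]
    congr 2
    rw [← Finset.card_univ]
    refine Finset.card_bij (fun x hx => ⟨q.out⁻¹ * x, QuotientGroup.eq.1
      ((Quotient.out_eq q).trans (Finset.mem_filter.1 hx).2.symm)⟩) ?_ ?_ ?_
    · exact fun _ _ => Finset.mem_univ _
    · intro a _ c _ hac
      simpa using congrArg Subtype.val hac
    · intro n _
      refine ⟨q.out * n, Finset.mem_filter.2 ⟨Finset.mem_univ _, ?_⟩, Subtype.ext (by simp)⟩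
      rw [QuotientGroup.mk_mul, (QuotientGroup.eq_one_iff (n : G)).2 n.2, mul_one]
      exact Quotient.out_eq q
  have hN0 : (Fintype.card N : localRing M) ≠ 0 := by
    simpa using Fintype.card_ne_zero
  have hQ0 : (N.index : ResField M) ≠ 0 := by
    rw [Ne, CharP.cast_eq_zero_iff (ResField M) p]; exact S.hidx
  have hconst' : ∀ g : G, ∀ n : N, χl (g * n) = χl g := fun g n => Subtype.ext (hconst g n)
  have h1 : (N.index : ResField M) * res M (χl 1) = 0 := by
    rw [hcos χl hconst'] at h0
    have h := congrArg (res M) ((mul_eq_zero.1 h0).resolve_left hN0)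
    rw [map_sum, map_zero] at h
    simpa [hval, Finset.card_univ, Subgroup.index, Nat.card_eq_fintype_card] using h
  have h1' : res M (χl 1) = 0 := (mul_eq_zero.1 h1).resolve_left hQ0
  have hnorm : ∑ x : G, χl x * χl x⁻¹ = (Fintype.card G : localRing M) := by
    apply Subtype.ext
    rw [AddSubmonoidClass.coe_finsetSum]
    have := H43.sum_mul_conj χ χ
    rw [if_pos rfl, Nat.card_eq_fintype_card] at this
    simp only [Subring.coe_mul, χl, irr_inv]
    simpa using this
  have hconst2 : ∀ g : G, ∀ n : N, χl (g * n) * χl (g * n)⁻¹ = χl g * χl g⁻¹ := by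
    intro g n
    rw [hconst', mul_inv_rev]
    congr 1
    apply Subtype.ext
    show χ.1 ((n : G)⁻¹ * g⁻¹) = χ.1 g⁻¹
    rw [irr_inv, ← mul_inv_rev, irr_inv, hconst]
  rw [hcos _ hconst2, Fintype.card_congr (Subgroup.groupEquivQuotientProdSubgroup (s := N)),
    Fintype.card_prod, Nat.cast_mul, mul_comm (Fintype.card (G ⧸ N) : localRing M)] at hnorm
  have h := congrArg (res M) (mul_left_cancel₀ hN0 hnorm)
  rw [map_sum, map_natCast] at h
  simp only [map_mul, hval, h1', mul_zero, Finset.sum_const_zero] at h
  exact hQ0 (by rw [Subgroup.index, Nat.card_eq_fintype_card]; exact h.symm)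

open scoped ComplexConjugate in
/-- The coset sums of the principal block idempotent are constant. -/
theorem PRSetup.sum_coset_blockCoeff [Fintype N] (S : PRSetup M N p P) (g : G) :
    ∑ n : N, blockCoeff (principalBlock M G) (g * n) =
      (Nat.card G : ℂ)⁻¹ * (Fintype.card N : ℂ) := by
  classical
  simp only [H41.blockCoeff_eq_sum, ← Finset.mul_sum]
  congr 1
  rw [Finset.sum_comm, Finset.sum_eq_single (oneIrr G)]
  · simp [oneIrr]
  · intro χ hχ hne
    rw [← Finset.mul_sum, ← map_sum]
    suffices ∑ n : N, χ.1 (g * n) = 0 by rw [this, map_zero, mul_zero]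
    -- translating the indicator of `N`
    let f : G → ℂ := fun x => if x ∈ N then 1 else 0
    have hf : IsClassFunction G f := fun x c => by
      show (if c * x * c⁻¹ ∈ N then (1 : ℂ) else 0) = if x ∈ N then 1 else 0
      have : c * x * c⁻¹ ∈ N ↔ x ∈ N := by
        refine ⟨fun h => ?_, fun h => ‹N.Normal›.conj_mem x h c⟩
        simpa [mul_assoc] using ‹N.Normal›.conj_mem _ h c⁻¹
      simp only [this]
    have htr : ∀ x : G, ∑ n : N, χ.1 (n * x) = (∑ n : N, χ.1 n) / χ.1 1 * χ.1 x := by
      intro x
      have e : ∀ F : G → ℂ, ∑ y, f y * F y = ∑ n : N, F n := by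
        intro F
        simp only [f, ite_mul, one_mul, zero_mul, ← Finset.sum_filter]
        exact (Finset.sum_subtype _ (fun y => by simp) _)
      rw [← e (fun y => χ.1 (y * x)), ← e χ.1]
      exact H43.sum_mul_translate hf χ x
    have hswap : ∑ n : N, χ.1 (g * n) = ∑ n : N, χ.1 (n * g) := by
      refine Fintype.sum_equiv (MulAut.conjNormal g).toEquiv _ _ fun n => ?_
      simp [mul_assoc]
    rw [hswap, htr]
    by_contra h
    refine hne (S.eq_one_of_const (Finset.mem_filter.1 hχ).2 fun x m => ?_)
    have hc : (∑ n : N, χ.1 n) / χ.1 1 ≠ 0 := left_ne_zero_of_mul h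
    refine mul_left_cancel₀ hc ?_
    have hm : x * (m : G) = (x * (m : G) * x⁻¹) * x := by group
    rw [← htr, ← htr, hm]
    refine Fintype.sum_equiv (Equiv.mulRight (MulAut.conjNormal x m)) _ _ fun n => ?_
    simp [mul_assoc]
  · intro h
    exact absurd (Finset.mem_filter.2 ⟨Finset.mem_univ (oneIrr G),
      show oneIrr G ∈ principalBlock M G from H41.sameBlock_refl _⟩) h

end Principal

section Main

variable {P : Sylow p G}

theorem isPBlock_principalBlock (H : Type u) [Group H] [Finite H] :
    IsPBlock M (principalBlock M H) := ⟨oneIrr H, rfl⟩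

theorem oneIrr_mem_principalBlock (H : Type u) [Group H] [Finite H] :
    oneIrr H ∈ principalBlock M H := H41.sameBlock_refl _

theorem coeff_idemBar_principal_conjNormal (g : G) (n : N) :
    ((idemBar (isPBlock_principalBlock (M := M) N) : groupAlgCenter (ResField M) N) :
        MonoidAlgebra (ResField M) N).coeff (MulAut.conjNormal g n) =
      ((idemBar (isPBlock_principalBlock (M := M) N) : groupAlgCenter (ResField M) N) :
        MonoidAlgebra (ResField M) N).coeff n := by
  classical
  have himg : H43.irrCongr (MulAut.conjNormal (H := N) g) '' principalBlock M N =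
      principalBlock M N :=
    H41.block_eq_of_mem_of_mem
      (H22.isPBlock_image (MulAut.conjNormal (H := N) g) (isPBlock_principalBlock N))
      (isPBlock_principalBlock N)
      (χ := oneIrr N) ⟨oneIrr N, oneIrr_mem_principalBlock N, Subtype.ext rfl⟩
      (oneIrr_mem_principalBlock N)
  rw [H41.coeff_idemBar, H41.coeff_idemBar]
  congr 1
  apply Subtype.ext
  show blockCoeff (principalBlock M N) (MulAut.conjNormal g n) = blockCoeff (principalBlock M N) n
  conv_rhs => rw [← himg]
  rw [H22.blockCoeff_image]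

/-- The principal idempotent of `N` inside the centre of `k[G]`. -/
noncomputable def principalE (M : Ideal AlgInt) [M.IsMaximal] (N : Subgroup G) [N.Normal] :
    groupAlgCenter (ResField M) G :=
  ⟨incN N ((idemBar (isPBlock_principalBlock (M := M) N) : groupAlgCenter (ResField M) N) :
      MonoidAlgebra (ResField M) N), H40.mem_center_iff_coeff.2 fun g c => by
    classical
    rw [coeff_incN, coeff_incN]
    by_cases h : g ∈ N
    · rw [dif_pos h, dif_pos (‹N.Normal›.conj_mem g h c)]
      exact coeff_idemBar_principal_conjNormal c ⟨g, h⟩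
    · rw [dif_neg h, dif_neg fun h' => h (by
        simpa [mul_assoc] using ‹N.Normal›.conj_mem _ h' c⁻¹)]⟩

theorem isIdempotentElem_principalE : IsIdempotentElem (principalE M N) := by
  apply Subtype.ext
  show incN N _ * incN N _ = incN N _
  rw [← map_mul, ← Subalgebra.coe_mul, (H41.isIdempotentElem_idemBar _).eq]

theorem aug_idemBar_principal (H : Type u) [Group H] [Finite H] :
    aug ((idemBar (isPBlock_principalBlock (M := M) H) : groupAlgCenter (ResField M) H) :
      MonoidAlgebra (ResField M) H) = 1 := by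
  rw [← omegaBar_oneIrr_eq_aug]
  exact H41.omegaBar_idemBar_self _ (oneIrr_mem_principalBlock H)

theorem omegaBar_principalE {χ : IrrCharacter G} (hχ : χ ∈ principalBlock M G) :
    omegaBar M χ (principalE M N) = 1 := by
  rw [H41.omegaBar_eq_of_mem (isPBlock_principalBlock G) hχ (oneIrr_mem_principalBlock G),
    omegaBar_oneIrr_eq_aug]
  show aug (incN N _) = 1
  rw [aug_incN, aug_idemBar_principal]

theorem principalE_mul_idemBar :
    principalE M N * idemBar (isPBlock_principalBlock (M := M) G) =
      idemBar (isPBlock_principalBlock G) := by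
  set eB := idemBar (isPBlock_principalBlock (M := M) G)
  have hz : omegaBar M (oneIrr G) (1 - principalE M N) = 0 := by
    rw [map_sub, map_one, omegaBar_principalE (oneIrr_mem_principalBlock G), sub_self]
  have hnil := H41.isNilpotent_mul_idemBar_of_omegaBar_eq_zero (isPBlock_principalBlock G)
    (oneIrr_mem_principalBlock G) hz
  have hid : IsIdempotentElem ((1 - principalE M N) * eB) :=
    IsIdempotentElem.mul_of_commute (Commute.all _ _) isIdempotentElem_principalE.one_sub
      (H41.isIdempotentElem_idemBar _)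
  obtain ⟨n, hn⟩ := hnil
  have h0 : (1 - principalE M N) * eB = 0 := by
    have := hid.pow_succ_eq n
    rwa [pow_succ, hn, zero_mul, eq_comm] at this
  have h1 : (1 - principalE M N) * eB = eB - principalE M N * eB :=
    (sub_mul _ _ _).trans (congrArg (· - principalE M N * eB) (one_mul eB))
  exact (sub_eq_zero.1 (h1.symm.trans h0)).symm

theorem aug_cosetPart_mul (q : G ⧸ N) (a : MonoidAlgebra (ResField M) G) (S : PRSetup M N p P) :
    aug (cosetPart q (a * ((idemBar (isPBlock_principalBlock (M := M) G) :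
        groupAlgCenter (ResField M) G) : MonoidAlgebra (ResField M) G))) =
      aug a * aug (cosetPart (1 : G ⧸ N) ((idemBar (isPBlock_principalBlock (M := M) G) :
        groupAlgCenter (ResField M) G) : MonoidAlgebra (ResField M) G)) := by
  classical
  let : Fintype G := Fintype.ofFinite G
  let : Fintype N := Fintype.ofFinite N
  have hpart : ∀ (q : G ⧸ N) (c : MonoidAlgebra (ResField M) G),
      aug (cosetPart q c) = ∑ n : N, c.coeff (q.out * n) := by
    intro q c
    rw [aug_eq_sum]
    simp only [coeff_cosetPart, ← Finset.sum_filter]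
    refine Finset.sum_bij (fun x hx => ⟨q.out⁻¹ * x, QuotientGroup.eq.1
      ((Quotient.out_eq q).trans (Finset.mem_filter.1 hx).2.symm)⟩) ?_ ?_ ?_ ?_
    · exact fun _ _ => Finset.mem_univ _
    · intro a _ c _ hac
      simpa using congrArg Subtype.val hac
    · intro n _
      refine ⟨q.out * n, Finset.mem_filter.2 ⟨Finset.mem_univ _, ?_⟩, Subtype.ext (by simp)⟩
      rw [QuotientGroup.mk_mul, (QuotientGroup.eq_one_iff (n : G)).2 n.2, mul_one]
      exact Quotient.out_eq q
    · intro x _
      simp
  set eB := idemBar (isPBlock_principalBlock (M := M) G)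
  have hconst : ∀ g g' : G, ∑ n : N, (eB : MonoidAlgebra (ResField M) G).coeff (g * n) =
      ∑ n : N, (eB : MonoidAlgebra (ResField M) G).coeff (g' * n) := by
    intro g g'
    simp only [eB, H41.coeff_idemBar, ← map_sum]
    congr 1
    apply Subtype.ext
    rw [AddSubmonoidClass.coe_finsetSum, AddSubmonoidClass.coe_finsetSum,
      S.sum_coset_blockCoeff, S.sum_coset_blockCoeff]
  rw [hpart, hpart, aug_eq_sum, Finset.sum_mul]
  simp only [H40.coeff_mul_eq_sum]
  rw [Finset.sum_comm]
  refine Finset.sum_congr rfl fun x _ => ?_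
  rw [← Finset.mul_sum]
  congr 1
  simp only [← mul_assoc]
  exact hconst _ _

/-- The algebra of the principal block of `G` is the image of that of `N`. -/
theorem PRSetup.exists_incN_mul_eq (S : PRSetup M N p P) (a : MonoidAlgebra (ResField M) G) :
    ∃ u : MonoidAlgebra (ResField M) N,
      incN N u * ((idemBar (isPBlock_principalBlock (M := M) G) : groupAlgCenter (ResField M) G) :
        MonoidAlgebra (ResField M) G) =
      a * ((idemBar (isPBlock_principalBlock (M := M) G) : groupAlgCenter (ResField M) G) :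
        MonoidAlgebra (ResField M) G) := by
  classical
  let : Field (ResField M) := Ideal.Quotient.field M
  let : Fintype G := Fintype.ofFinite G
  let : Fintype (G ⧸ N) := Fintype.ofFinite _
  have : IsArtinianRing (groupAlgCenter (ResField M) N) := IsArtinianRing.of_finite (ResField M) _
  set hb := isPBlock_principalBlock (M := M) N
  have h1b := oneIrr_mem_principalBlock (M := M) N
  set eb := idemBar hb
  set eBz := idemBar (isPBlock_principalBlock (M := M) G)
  set eB : MonoidAlgebra (ResField M) G := (eBz : MonoidAlgebra (ResField M) G) with heBdef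
  set E : MonoidAlgebra (ResField M) G := (principalE M N : MonoidAlgebra (ResField M) G) with hEdef
  have hEB : E * eB = eB := congrArg Subtype.val (principalE_mul_idemBar (M := M) (N := N))
  have hBB : eB * eB = eB :=
    congrArg Subtype.val (H41.isIdempotentElem_idemBar (isPBlock_principalBlock (M := M) G))
  have hBc : ∀ x, x * eB = eB * x := Subalgebra.mem_center_iff.1 eBz.2
  choose z hzI hzS hzA using fun q : G ⧸ N => S.exists_z q
  -- `z q * z q⁻¹` is a unit of the block of `N`
  have hinv : ∀ q : G ⧸ N, ∃ v : groupAlgCenter (ResField M) N,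
      z q * incN N (v : MonoidAlgebra (ResField M) N) * z q⁻¹ * E = E := by
    intro q
    obtain ⟨w, hw⟩ := exists_centre_incN_eq (N := N) (a := z q * z q⁻¹)
      (coeffInvariant_mul (hzI q) (hzI q⁻¹))
      (by have := (hzS q).mul (hzS q⁻¹); rwa [mul_inv_cancel] at this)
    have hw0 : omegaBar M (oneIrr N) w ≠ 0 := by
      rw [omegaBar_oneIrr_eq_aug, ← aug_incN, hw, aug_mul]
      exact mul_ne_zero (hzA q) (hzA q⁻¹)
    obtain ⟨v, hv⟩ := exists_inv_mul_idemBar hb h1b hw0
    refine ⟨v, ?_⟩
    rw [← (commute_incN (hzI q) _).eq, mul_assoc (incN N _) (z q) (z q⁻¹), ← hw, ← map_mul,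
      ← Subalgebra.coe_mul, hEdef]
    show incN N _ * incN N _ = incN N _
    rw [← map_mul, ← Subalgebra.coe_mul, hv]
  choose v hv using hinv
  -- an invariant element of a coset
  have hdec : ∀ (q : G ⧸ N) (c : MonoidAlgebra (ResField M) G), CoeffInvariant N c →
      SuppIn N q c → ∃ w : groupAlgCenter (ResField M) N,
        c * E = incN N (w : MonoidAlgebra (ResField M) N) * z q * E ∧
        (aug c = 0 → aug (w : MonoidAlgebra (ResField M) N) = 0) := by
    intro q c hcI hcS
    obtain ⟨w, hw⟩ := exists_centre_incN_eq (N := N) (a := z q⁻¹ * c)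
      (coeffInvariant_mul (hzI q⁻¹) hcI)
      (by have := (hzS q⁻¹).mul hcS; rwa [inv_mul_cancel] at this)
    refine ⟨v q * w, ?_, fun h0 => ?_⟩
    · rw [Subalgebra.coe_mul, map_mul, hw]
      have hEc : ∀ x, x * E = E * x := Subalgebra.mem_center_iff.1 (principalE M N).2
      calc c * E = E * c := hEc c
        _ = z q * incN N (v q : MonoidAlgebra (ResField M) N) * z q⁻¹ * E * c := by rw [hv]
        _ = z q * incN N (v q : MonoidAlgebra (ResField M) N) * (z q⁻¹ * c) * E := by
          simp only [mul_assoc, hEc c]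
        _ = incN N (v q : MonoidAlgebra (ResField M) N) * (z q⁻¹ * c) * z q * E := by
          rw [← (commute_incN (hzI q) _).eq, mul_assoc (incN N _) (z q), ← hw,
            ← (commute_incN (hzI q) _).eq, ← mul_assoc]
    · rw [Subalgebra.coe_mul, aug_mul, ← aug_incN (w : MonoidAlgebra (ResField M) N), hw,
        aug_mul, h0, mul_zero, mul_zero]
  let W : MonoidAlgebra (ResField M) G → Prop := fun c => ∃ u, incN N u * eB = c * eB
  have hWadd : ∀ c d, W c → W d → W (c + d) := by
    rintro c d ⟨u, hu⟩ ⟨u', hu'⟩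
    exact ⟨u + u', by rw [map_add, add_mul, add_mul, hu, hu']⟩
  have hWsum : ∀ {ι : Type u} (s : Finset ι) (f : ι → MonoidAlgebra (ResField M) G),
      (∀ i ∈ s, W (f i)) → W (∑ i ∈ s, f i) := fun s f hf =>
    Finset.sum_induction f W hWadd ⟨0, by rw [map_zero]⟩ hf
  -- descending induction along the powers of the nilradical
  obtain ⟨L, hL⟩ := IsArtinianRing.isNilpotent_nilradical (R := groupAlgCenter (ResField M) N)
  have key : ∀ j i : ℕ, i + j = L → ∀ w ∈ nilradical (groupAlgCenter (ResField M) N) ^ i,
      ∀ q, W (incN N (w : MonoidAlgebra (ResField M) N) * z q) := by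
    intro j
    induction j with
    | zero =>
      intro i hi w hw q
      rw [Nat.add_zero] at hi
      subst hi
      rw [hL] at hw
      exact ⟨0, by rw [(Submodule.mem_bot _).1 hw]; simp⟩
    | succ j ih =>
      intro i hi w hw q
      set s := aug (z q)
      let a' := z q * eB - s • eB
      have ha'I : CoeffInvariant N a' := by
        have h1 : CoeffInvariant N (z q * eB) :=
          coeffInvariant_mul (hzI q) (H40.coeffInvariant_of_mem_center N eBz.2)
        intro n hn g
        have h2 : eB.coeff (n * g * n⁻¹) = eB.coeff g :=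
          H40.coeffInvariant_of_mem_center N eBz.2 n hn g
        simp only [a', MonoidAlgebra.coeff_sub, Finsupp.sub_apply, MonoidAlgebra.coeff_smul_apply,
          h1 n hn g, h2]
      have hzero : ∀ x : G ⧸ N, aug (cosetPart x a') = 0 := by
        intro x
        have e1 := aug_cosetPart_mul x (z q) S
        have e2 := aug_cosetPart_mul x 1 S
        rw [one_mul, show aug (1 : MonoidAlgebra (ResField M) G) = 1 from aug_single 1 1,
          one_mul] at e2
        have e3 : cosetPart x a' = cosetPart x (z q * eB) - s • cosetPart x eB := by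
          refine H40.ext_coeff fun h => ?_
          simp only [a', coeff_cosetPart, MonoidAlgebra.coeff_sub, Finsupp.sub_apply,
            MonoidAlgebra.coeff_smul_apply]
          split <;> simp
        have e4 : aug (cosetPart x a') + s * aug (cosetPart x eB) = aug (cosetPart x (z q * eB)) := by
          rw [← aug_smul, ← aug_add, e3, sub_add_cancel]
        rw [e1, e2] at e4
        exact add_eq_right.1 e4
      choose w' hw' hw'0 using fun x : G ⧸ N =>
        hdec x (cosetPart x a') (coeffInvariant_cosetPart ha'I) (suppIn_cosetPart x a')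
      have hnil : ∀ x, w' x * eb ∈ nilradical (groupAlgCenter (ResField M) N) := fun x =>
        mem_nilradical.2 (H41.isNilpotent_mul_idemBar_of_omegaBar_eq_zero hb h1b
          ((omegaBar_oneIrr_eq_aug (w' x)).trans (hw'0 x (hzero x))))
      have hstep : incN N (w : MonoidAlgebra (ResField M) N) * z q * eB =
          incN N (s • (w : MonoidAlgebra (ResField M) N)) * eB +
            (∑ x : G ⧸ N, incN N ((w * (w' x * eb) : groupAlgCenter (ResField M) N) :
              MonoidAlgebra (ResField M) N) * z x) * eB := by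
        have h1 : z q * eB = s • eB + (∑ x : G ⧸ N, cosetPart x a' * E) * eB := by
          rw [← Finset.sum_mul, sum_cosetPart, mul_assoc, hEB]
          simp only [a', sub_mul, smul_mul_assoc, mul_assoc, hBB, add_sub_cancel]
        rw [mul_assoc, h1, mul_add, mul_smul_comm, smul_incN, smul_mul_assoc]
        congr 1
        rw [← mul_assoc, Finset.mul_sum]
        congr 1
        refine Finset.sum_congr rfl fun x _ => ?_
        have hEc : ∀ y, y * E = E * y := Subalgebra.mem_center_iff.1 (principalE M N).2
        rw [hw', Subalgebra.coe_mul, Subalgebra.coe_mul, map_mul, map_mul]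
        show _ = incN N (w : MonoidAlgebra (ResField M) N) * (incN N _ * E) * z x
        simp only [mul_assoc, hEc (z x)]
      obtain ⟨u, hu⟩ := hWsum Finset.univ
        (fun x => incN N ((w * (w' x * eb) : groupAlgCenter (ResField M) N) :
          MonoidAlgebra (ResField M) N) * z x) (fun x _ => ih (i + 1) (by omega) _
            (by rw [pow_succ]; exact Ideal.mul_mem_mul hw (hnil x)) x)
      exact ⟨s • (w : MonoidAlgebra (ResField M) N) + u, by rw [map_add, add_mul, hu, hstep]⟩
  -- every group element
  have hWg : ∀ g : G, W (MonoidAlgebra.single g 1) := by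
    intro g
    set q : G ⧸ N := (g : G ⧸ N)
    obtain ⟨t, ht⟩ := exists_incN_eq (N := N) (a := z q⁻¹ * MonoidAlgebra.single g (1 : ResField M))
      (by
        have h2 : SuppIn N q (MonoidAlgebra.single g (1 : ResField M)) := fun h hh => by
          rw [MonoidAlgebra.coeff_single, Finsupp.single_apply] at hh
          by_cases e : g = h
          · rw [← e]
          · exact absurd (if_neg e) hh
        have := (hzS q⁻¹).mul h2
        rwa [inv_mul_cancel] at this)
    obtain ⟨u₀, hu₀⟩ := key L 0 (by omega) 1 (by simp) q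
    refine ⟨((v q : MonoidAlgebra (ResField M) N) * t) * u₀, ?_⟩
    rw [Subalgebra.coe_one, map_one, one_mul] at hu₀
    rw [map_mul, mul_assoc, hu₀, map_mul, ht]
    have hc : incN N (v q : MonoidAlgebra (ResField M) N) * incN N t * z q =
        z q * (incN N (v q : MonoidAlgebra (ResField M) N) * incN N t) := by
      rw [← map_mul]
      exact commute_incN (hzI q) _
    rw [← ht, ← mul_assoc, hc, ht]
    calc z q * (incN N (v q : MonoidAlgebra (ResField M) N) *
          (z q⁻¹ * MonoidAlgebra.single g 1)) * eB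
        = z q * incN N (v q : MonoidAlgebra (ResField M) N) * z q⁻¹ *
            (eB * MonoidAlgebra.single g 1) := by rw [← hBc (MonoidAlgebra.single g 1)]; simp only [mul_assoc]
      _ = z q * incN N (v q : MonoidAlgebra (ResField M) N) * z q⁻¹ * E *
            (eB * MonoidAlgebra.single g 1) := by rw [mul_assoc _ E, ← mul_assoc E, hEB]
      _ = E * (eB * MonoidAlgebra.single g 1) := by rw [hv]
      _ = MonoidAlgebra.single g 1 * eB := by rw [← mul_assoc, hEB, hBc]
  have hW : W a := by
    rw [H40.eq_sum_single a]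
    refine hWsum Finset.univ _ fun g _ => ?_
    obtain ⟨u, hu⟩ := hWg g
    refine ⟨a.coeff g • u, ?_⟩
    rw [smul_incN, smul_mul_assoc, hu, ← smul_mul_assoc, MonoidAlgebra.smul_single, smul_eq_mul,
      mul_one]
  exact hW

/-- The block algebras have comparable dimensions. -/
theorem PRSetup.finrank_le (S : PRSetup M N p P) :
    Module.finrank (ResField M) (LinearMap.range (LinearMap.mulRight (ResField M)
      ((idemBar (isPBlock_principalBlock (M := M) G) : groupAlgCenter (ResField M) G) :
        MonoidAlgebra (ResField M) G))) ≤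
    Module.finrank (ResField M) (LinearMap.range (LinearMap.mulRight (ResField M)
      ((idemBar (isPBlock_principalBlock (M := M) N) : groupAlgCenter (ResField M) N) :
        MonoidAlgebra (ResField M) N))) := by
  classical
  let : Field (ResField M) := Ideal.Quotient.field M
  set eB := ((idemBar (isPBlock_principalBlock (M := M) G) : groupAlgCenter (ResField M) G) :
    MonoidAlgebra (ResField M) G)
  set eb := ((idemBar (isPBlock_principalBlock (M := M) N) : groupAlgCenter (ResField M) N) :
    MonoidAlgebra (ResField M) N)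
  let Φ : MonoidAlgebra (ResField M) N →ₗ[ResField M] MonoidAlgebra (ResField M) G :=
    { toFun := fun u => incN N u * eB
      map_add' := fun u u' => by rw [map_add, add_mul]
      map_smul' := fun r u => by rw [smul_incN, smul_mul_assoc, RingHom.id_apply] }
  have : Module.Finite (ResField M) (MonoidAlgebra (ResField M) N) := by infer_instance
  refine le_trans (Submodule.finrank_mono ?_) (Submodule.finrank_map_le Φ _)
  rintro _ ⟨a, rfl⟩
  obtain ⟨u, hu⟩ := S.exists_incN_mul_eq a
  refine ⟨u * eb, ⟨u, rfl⟩, ?_⟩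
  show incN N (u * eb) * eB = a * eB
  rw [map_mul, mul_assoc,
    show incN N eb * eB = eB from congrArg Subtype.val (principalE_mul_idemBar (M := M) (N := N)),
    hu]

/-- Every member of the principal block of `N` lies below one of the principal block of `G`. -/
theorem PRSetup.exists_over [Fintype N] (S : PRSetup M N p P) {θ : IrrCharacter N}
    (hθ : θ ∈ principalBlock M N) :
    ∃ χ ∈ principalBlock M G, H43.restrMult N χ θ ≠ 0 := by
  classical
  let : Fintype G := Fintype.ofFinite G
  by_contra hno
  push Not at hno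
  have hB := isPBlock_principalBlock (M := M) G
  -- the coefficients of `B` on `N` pair trivially with `θ`
  have h0 : ∑ n : N, blockCoeff (principalBlock M G) n * θ.1 n = 0 := by
    simp only [H41.blockCoeff_eq_sum, Finset.mul_sum, Finset.sum_mul]
    rw [Finset.sum_comm]
    refine Finset.sum_eq_zero fun χ hχ => ?_
    have h := hno χ (Finset.mem_filter.1 hχ).2
    have h' : Cfsg.classInner (fun n : N => χ.1 n) θ.1 = 0 := by
      rw [H43.classInner_eq_mult (φ := fun n : N => χ.1 n) (H43.isCharacter_restr N χ)]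
      exact_mod_cast h
    rw [Cfsg.classInner, mul_eq_zero] at h'
    have h'' : ∑ n : N, χ.1 n * (starRingEnd ℂ) (θ.1 n) = 0 :=
      h'.resolve_left (inv_ne_zero (Nat.cast_ne_zero.2 Nat.card_pos.ne'))
    have h3 : ∑ n : N, (starRingEnd ℂ) (χ.1 n) * θ.1 n = 0 := by
      simpa [map_sum] using congrArg (starRingEnd ℂ) h''
    rw [← mul_zero ((Nat.card G : ℂ)⁻¹ * χ.1 1), ← h3, Finset.mul_sum]
    exact Finset.sum_congr rfl fun n _ => by ring
  let z : groupAlgCenter (ResField M) N := H40.restrictZ M N (idemBar hB)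
  have hz : ∀ φ : IrrCharacter N, ∀ c : localRing M,
      ∑ n : N, blockCoeff (principalBlock M G) n * φ.1 n / φ.1 1 = (c : ℂ) →
        omegaBar M φ z = res M c := by
    intro φ c hc
    show omegaBar M φ (H40.brauerZ ⊥ N (H40.le_normalizer_bot N) (redZ M (H41.locIdem hB))) = _
    rw [← H40.redZ_brauerZ, omegaBar_redZ]
    congr 1
    apply Subtype.ext
    rw [coe_omegaLoc, omega_apply, ← hc, Finset.sum_div]
    refine Finset.sum_congr rfl fun n _ => ?_
    rw [H41.coeff_incl, H40.coe_brauerZ, H40.coeff_brauerMap,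
      if_pos (H40.mem_centralizer_bot _), ← H41.coeff_blockIdem, ← H41.incl_locIdem hB,
      H41.coeff_incl]
  have hzθ : omegaBar M θ z = 0 := by
    rw [hz θ 0 (by rw [← Finset.sum_div, h0, zero_div]; rfl), map_zero]
  rw [H41.omegaBar_eq_of_mem (isPBlock_principalBlock N) hθ (oneIrr_mem_principalBlock N)] at hzθ
  have hmem : ∀ n : N, blockCoeff (principalBlock M G) (n : G) ∈ localRing M := fun n =>
    H41.blockCoeff_mem hB _
  have h1 := hz (oneIrr N) ⟨∑ n : N, blockCoeff (principalBlock M G) (n : G),
    sum_mem fun n _ => hmem n⟩ (by simp [oneIrr])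
  rw [hzθ, eq_comm] at h1
  have hsum := S.sum_coset_blockCoeff 1
  simp only [one_mul] at hsum
  have hidx : (N.index : localRing M) * ⟨∑ n : N, blockCoeff (principalBlock M G) (n : G),
      sum_mem fun n _ => hmem n⟩ = 1 := by
    apply Subtype.ext
    show (N.index : ℂ) * (∑ n : N, blockCoeff (principalBlock M G) (n : G)) = 1
    rw [hsum, ← N.index_mul_card, ← Nat.card_eq_fintype_card]
    push_cast
    field_simp [Nat.cast_ne_zero.2 (Subgroup.index_ne_zero_of_finite (H := N)),
      Nat.cast_ne_zero.2 (Nat.card_pos (α := N)).ne']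
  have := congrArg (res M) hidx
  rw [map_mul, h1, mul_zero, map_one] at this
  exact zero_ne_one this

/-- Constituents of a member of the principal block lie in the principal block. -/
theorem PRSetup.constituent_mem [Fintype N] (S : PRSetup M N p P) {χ : IrrCharacter G}
    (hχ : χ ∈ principalBlock M G) {θ : IrrCharacter N} (hθ : H43.restrMult N χ θ ≠ 0) :
    θ ∈ principalBlock M N := by
  classical
  let : Fintype G := Fintype.ofFinite G
  have hb := isPBlock_principalBlock (M := M) N
  -- some constituent is in the block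
  obtain ⟨φ, hφb, hφ⟩ : ∃ φ ∈ principalBlock M N, H43.restrMult N χ φ ≠ 0 := by
    by_contra hno
    push Not at hno
    have hw : weight (principalBlock M N) (fun n : N => χ.1 n) = 0 := by
      rw [weight]
      refine Finset.sum_eq_zero fun φ hφ => ?_
      rw [H43.classInner_eq_mult (φ := fun n : N => χ.1 n) (H43.isCharacter_restr N χ),
        show H43.mult (fun n : N => χ.1 n) φ = 0 from hno φ (Finset.mem_filter.1 hφ).2,
        Nat.cast_zero, zero_mul]
    rw [weight_eq_sum] at hw
    have hext : ∀ g c : G, (if h : c * g * c⁻¹ ∈ N then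
        blockCoeff (principalBlock M N) ⟨c * g * c⁻¹, h⟩ else 0) =
        if h : g ∈ N then blockCoeff (principalBlock M N) ⟨g, h⟩ else 0 := by
      intro g c
      by_cases h : g ∈ N
      · rw [dif_pos h, dif_pos (‹N.Normal›.conj_mem g h c)]
        have himg : H43.irrCongr (MulAut.conjNormal (H := N) c) '' principalBlock M N =
            principalBlock M N :=
          H41.block_eq_of_mem_of_mem
            (H22.isPBlock_image (MulAut.conjNormal (H := N) c) hb) hb
            (χ := oneIrr N) ⟨oneIrr N, oneIrr_mem_principalBlock N, Subtype.ext rfl⟩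
            (oneIrr_mem_principalBlock N)
        conv_rhs => rw [← himg]
        rw [H22.blockCoeff_image]
        exact congrArg _ (Subtype.ext (by simp))
      · rw [dif_neg h, dif_neg fun h' => h (by
          simpa [mul_assoc] using ‹N.Normal›.conj_mem _ h' c⁻¹)]
    let F : groupAlgCenter (localRing M) G := H41.centerOfFun
      (fun g => ⟨if h : g ∈ N then blockCoeff (principalBlock M N) ⟨g, h⟩ else 0, by
        split
        · exact H41.blockCoeff_mem hb _
        · exact zero_mem _⟩) fun g c => Subtype.ext (hext g c)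
    have hF : redZ M F = principalE M N := by
      refine Subtype.ext (H40.ext_coeff fun g => ?_)
      show _ = (incN N _).coeff g
      rw [H41.coeff_redZ, H41.coeff_centerOfFun, coeff_incN]
      split_ifs with h
      · rw [H41.coeff_idemBar]
      · exact map_zero (res M)
    have hF0 : omegaLoc M χ F = 0 := by
      apply Subtype.ext
      rw [coe_omegaLoc, omega_apply]
      simp only [H41.coeff_incl, F, H41.coeff_centerOfFun]
      have e : (∑ g : G, (if h : g ∈ N then blockCoeff (principalBlock M N) ⟨g, h⟩ else 0) *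
          χ.1 g) = ∑ n : N, blockCoeff (principalBlock M N) n * χ.1 n := by
        rw [← Finset.sum_filter_add_sum_filter_not Finset.univ (· ∈ N), add_eq_left.2]
        · rw [Finset.sum_subtype (Finset.univ.filter (· ∈ N)) (p := (· ∈ N)) (fun x => by simp)]
          exact Finset.sum_congr rfl fun n _ => by rw [dif_pos n.2]
        · exact Finset.sum_eq_zero fun g hg => by
            rw [dif_neg (Finset.mem_filter.1 hg).2, zero_mul]
      rw [e, hw, zero_div]
      rfl
    have := omegaBar_principalE (N := N) hχ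
    rw [← hF, omegaBar_redZ, hF0, map_zero] at this
    exact zero_ne_one this
  obtain ⟨x, rfl⟩ := H43.exists_irrConj_of_restrMult_ne_zero N χ hφ hθ
  refine (H41.mem_iff_of_sameBlock hb ?_).1 (oneIrr_mem_principalBlock N)
  have h1 : H43.irrConj N x (oneIrr N) = oneIrr N := Subtype.ext rfl
  rw [← h1]
  exact sameBlock_irrConj N x (H41.sameBlock_of_mem hb (oneIrr_mem_principalBlock N) hφb)

/-- **Restriction between principal blocks.** -/
theorem PRSetup.restriction_bijective (S : PRSetup M N p P) :
    (∀ χ ∈ principalBlock M G, ∃ θ ∈ principalBlock M ↥N, ∀ n : N, χ.1 (n : G) = θ.1 n) ∧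
      ∀ θ ∈ principalBlock M ↥N, ∃! χ : IrrCharacter G, χ ∈ principalBlock M G ∧
        ∀ n : N, χ.1 (n : G) = θ.1 n := by
  classical
  let : Fintype G := Fintype.ofFinite G
  let : Fintype N := Fintype.ofFinite N
  let sB := Finset.univ.filter (fun χ : IrrCharacter G => χ ∈ principalBlock M G)
  let sb := Finset.univ.filter (fun θ : IrrCharacter N => θ ∈ principalBlock M N)
  let d : IrrCharacter G → ℕ := fun χ => Cfsg.charDegree χ.1
  let e : IrrCharacter N → ℕ := fun θ => Cfsg.charDegree θ.1
  let m : IrrCharacter G → IrrCharacter N → ℕ := fun χ θ => H43.restrMult N χ θ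
  have hone : ∀ χ ∈ sB, d χ = ∑ θ ∈ sb, m χ θ * e θ := by
    intro χ hχ
    apply Nat.cast_injective (R := ℂ)
    rw [← H43.irr_charDegree_spec, Nat.cast_sum]
    have h := H43.apply_one_eq_sum_mult (H43.isCharacter_restr N χ)
    simp only [Subgroup.coe_one] at h
    rw [h, ← Finset.sum_subset (Finset.subset_univ sb)]
    · exact Finset.sum_congr rfl fun θ _ => (Nat.cast_mul _ _).symm
    · intro θ _ hθ
      have : H43.restrMult N χ θ = 0 := by
        by_contra h'
        exact hθ (Finset.mem_filter.2 ⟨Finset.mem_univ _,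
          S.constituent_mem (Finset.mem_filter.1 hχ).2 h'⟩)
      rw [show H43.mult (fun n : N => χ.1 n) θ = 0 from this, Nat.cast_zero, zero_mul]
  have hdim : ∑ χ ∈ sB, d χ * d χ ≤ ∑ θ ∈ sb, e θ * e θ := by
    refine le_of_eq_of_le ?_ (le_of_le_of_eq S.finrank_le ?_)
    · apply Nat.cast_injective (R := ℂ)
      rw [natCast_finrank_range_mulRight_idemBar, Nat.cast_sum]
      exact Finset.sum_congr rfl fun χ _ => by rw [Nat.cast_mul, ← H43.irr_charDegree_spec]
    · apply Nat.cast_injective (R := ℂ)
      rw [natCast_finrank_range_mulRight_idemBar, Nat.cast_sum]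
      exact Finset.sum_congr rfl fun θ _ => by rw [Nat.cast_mul, ← H43.irr_charDegree_spec]
  have hsw : ∑ χ ∈ sB, d χ * d χ = ∑ θ ∈ sb, (∑ χ ∈ sB, d χ * m χ θ) * e θ := by
    simp only [Finset.sum_mul]
    rw [Finset.sum_comm]
    refine Finset.sum_congr rfl fun χ hχ => ?_
    conv_lhs => arg 2; rw [hone χ hχ]
    rw [Finset.mul_sum]
    exact Finset.sum_congr rfl fun θ _ => (mul_assoc _ _ _).symm
  have hle : ∀ χ ∈ sB, ∀ θ ∈ sb, m χ θ * e θ ≤ d χ := fun χ hχ θ hθ => by
    rw [hone χ hχ]
    exact Finset.single_le_sum (f := fun θ => m χ θ * e θ) (fun _ _ => Nat.zero_le _) hθ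
  have hpos : ∀ θ : IrrCharacter N, 0 < e θ := fun θ => H43.irr_charDegree_pos θ
  have hge : ∀ θ ∈ sb, e θ ≤ ∑ χ ∈ sB, d χ * m χ θ := by
    intro θ hθ
    obtain ⟨χ, hχ, hne⟩ := S.exists_over (Finset.mem_filter.1 hθ).2
    have hχ' : χ ∈ sB := Finset.mem_filter.2 ⟨Finset.mem_univ _, hχ⟩
    have hm : 1 ≤ m χ θ := Nat.one_le_iff_ne_zero.2 hne
    calc e θ = 1 * e θ := (one_mul _).symm
      _ ≤ m χ θ * e θ := Nat.mul_le_mul_right _ hm
      _ ≤ d χ := hle χ hχ' θ hθ
      _ = d χ * 1 := (mul_one _).symm
      _ ≤ d χ * m χ θ := Nat.mul_le_mul_left _ hm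
      _ ≤ _ := Finset.single_le_sum (f := fun χ => d χ * m χ θ) (fun _ _ => Nat.zero_le _) hχ'
  have hsum : ∀ θ ∈ sb, ∑ χ ∈ sB, d χ * m χ θ = e θ := by
    have hle2 : ∀ θ ∈ sb, e θ * e θ ≤ (∑ χ ∈ sB, d χ * m χ θ) * e θ := fun θ hθ =>
      Nat.mul_le_mul_right _ (hge θ hθ)
    have heq : ∑ θ ∈ sb, e θ * e θ = ∑ θ ∈ sb, (∑ χ ∈ sB, d χ * m χ θ) * e θ :=
      le_antisymm (Finset.sum_le_sum hle2) (hsw ▸ hdim)
    intro θ hθ
    exact (Nat.eq_of_mul_eq_mul_right (hpos θ)
      ((Finset.sum_eq_sum_iff_of_le hle2).1 heq θ hθ)).symm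
  -- a constituent is the restriction
  have hres : ∀ χ ∈ sB, ∀ θ ∈ sb, m χ θ ≠ 0 → ∀ n : N, χ.1 (n : G) = θ.1 n := by
    intro χ hχ θ hθ hne
    have h1 : d χ * m χ θ ≤ e θ :=
      (hsum θ hθ) ▸ Finset.single_le_sum (f := fun χ => d χ * m χ θ) (fun _ _ => Nat.zero_le _) hχ
    have hm : m χ θ = 1 := by
      have := hle χ hχ θ hθ
      have := hpos θ
      nlinarith [Nat.one_le_iff_ne_zero.2 hne]
    have hd : d χ = e θ := by
      have := hle χ hχ θ hθ
      rw [hm] at this h1
      omega
    intro n
    have hothers : ∀ φ : IrrCharacter N, φ ≠ θ → H43.mult (fun n : N => χ.1 n) φ = 0 := by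
      intro φ hφ
      by_contra h'
      have hφb : φ ∈ sb := Finset.mem_filter.2 ⟨Finset.mem_univ _,
        S.constituent_mem (Finset.mem_filter.1 hχ).2 h'⟩
      have h2 : m χ θ * e θ + m χ φ * e φ ≤ d χ := by
        rw [hone χ hχ, ← Finset.sum_pair (f := fun θ => m χ θ * e θ) hφ.symm]
        refine Finset.sum_le_sum_of_subset fun x hx => ?_
        rcases Finset.mem_insert.1 hx with rfl | hx
        · exact hθ
        · exact Finset.mem_singleton.1 hx ▸ hφb
      have h3 : 0 < m χ φ * e φ := Nat.mul_pos (Nat.pos_of_ne_zero h') (hpos φ)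
      rw [hm, one_mul] at h2
      omega
    have h := congrFun (H43.eq_sum_mult (H43.isCharacter_restr N χ)) n
    rw [Finset.sum_apply, Finset.sum_eq_single θ (fun φ _ hφ => by
      simp [hothers φ hφ]) (fun h => absurd (Finset.mem_univ θ) h)] at h
    rw [h, Pi.smul_apply, show H43.mult (fun n : N => χ.1 n) θ = 1 from hm, Nat.cast_one, one_smul]
  refine ⟨fun χ hχ => ?_, fun θ hθ => ?_⟩
  · obtain ⟨θ, hθ⟩ := H43.exists_restrMult_ne_zero N χ
    have hθb := S.constituent_mem hχ hθ
    exact ⟨θ, hθb, hres χ (Finset.mem_filter.2 ⟨Finset.mem_univ _, hχ⟩) θ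
      (Finset.mem_filter.2 ⟨Finset.mem_univ _, hθb⟩) hθ⟩
  · have hθ' : θ ∈ sb := Finset.mem_filter.2 ⟨Finset.mem_univ _, hθ⟩
    obtain ⟨χ, hχ, hne⟩ := S.exists_over hθ
    have hχ' : χ ∈ sB := Finset.mem_filter.2 ⟨Finset.mem_univ _, hχ⟩
    refine ⟨χ, ⟨hχ, hres χ hχ' θ hθ' hne⟩, ?_⟩
    rintro χ' ⟨hχm, hr⟩
    by_contra hdiff
    have hχm' : χ' ∈ sB := Finset.mem_filter.2 ⟨Finset.mem_univ _, hχm⟩
    have hm' : m χ' θ = 1 := by
      refine H43.mult_eq_of_classInner ?_
      rw [show (fun n : N => χ'.1 n) = θ.1 from funext hr, H26.classInner_irr, if_pos rfl]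
      simp
    have h2 : d χ * m χ θ + d χ' * m χ' θ ≤ e θ := by
      rw [← hsum θ hθ', ← Finset.sum_pair (f := fun χ => d χ * m χ θ) (Ne.symm hdiff)]
      refine Finset.sum_le_sum_of_subset fun x hx => ?_
      rcases Finset.mem_insert.1 hx with rfl | hx
      · exact hχ'
      · exact Finset.mem_singleton.1 hx ▸ hχm'
    have h3 := hle χ hχ' θ hθ'
    have h4 : 0 < d χ' := H43.irr_charDegree_pos χ'
    have h5 : 1 ≤ m χ θ := Nat.one_le_iff_ne_zero.2 hne
    rw [hm'] at h2
    nlinarith

end Main

end Cfsg.Agent.H26
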